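import Mathlib

/-!
A space `A` of maps out of a module `P` over two elements, closed under composition with a space `L`
of maps which are zero or injective, and small on every subspace: `|A| |L| ≤ |P|`.
-/

set_option autoImplicit false
set_option linter.style.haveILetI false
set_option linter.unusedSectionVars false

open Polynomial

namespace CfsgLib.SThreeFree

theorem zmod_two_cases : ∀ c : ZMod 2, c = 0 ∨ c = 1 := by decide

theorem exists_idempotent_pow {M : Type*} [Monoid M] [Finite M] (a : M) :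
    ∃ n, 0 < n ∧ a ^ n * a ^ n = a ^ n := by
  obtain ⟨i, j, hne, he⟩ := Finite.exists_ne_map_eq_of_infinite fun n : ℕ => a ^ n
  wlog hij : i < j generalizing i j with H
  · exact H j i hne.symm he.symm (lt_of_le_of_ne (not_lt.mp hij) hne.symm)
  have hstep : ∀ m, i ≤ m → ∀ t, a ^ (m + t * (j - i)) = a ^ m := by
    intro m hm t
    induction t with
    | zero => simp
    | succ t ih =>
      have h1 : m + (t + 1) * (j - i) = (m - i + t * (j - i)) + j := by
        rw [Nat.succ_mul]; omega
      rw [h1, pow_add, show a ^ j = a ^ i from he.symm, ← pow_add]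
      rw [show m - i + t * (j - i) + i = m + t * (j - i) by omega, ih]
  refine ⟨(i + 1) * (j - i), Nat.mul_pos (Nat.succ_pos i) (by omega), ?_⟩
  rw [← pow_add]
  exact hstep _ ((Nat.le_succ i).trans (Nat.le_mul_of_pos_right _ (by omega))) _

theorem card_isotypic {M : Type*} [AddCommGroup M] [Module (ZMod 2) M] [Finite M]
    (T : Module.End (ZMod 2) M) {p : (ZMod 2)[X]} (hp : Irreducible p) (n : ℕ) :
    ∀ U : Submodule (ZMod 2) M, (∀ u ∈ U, T u ∈ U) → (∀ u ∈ U, (aeval T p ^ n) u = 0) →
      ∃ i, Nat.card U = (2 ^ p.natDegree) ^ i := by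
  induction n with
  | zero =>
    intro U _ hU
    have : U = ⊥ := (Submodule.eq_bot_iff _).mpr fun u hu => by simpa using hU u hu
    exact ⟨0, by simp [this]⟩
  | succ n ih =>
    intro U hT hU
    set q := aeval T p with hq
    have hcomm : T * q = q * T := by
      have := ((commute_X p).map (aeval T)).eq
      rwa [aeval_X] at this
    obtain ⟨i, hi⟩ := ih (U.map q) (by
      rintro _ ⟨u, hu, rfl⟩
      exact ⟨T u, hT u hu, by rw [← Module.End.mul_apply, ← hcomm]; rfl⟩) (by
      rintro _ ⟨u, hu, rfl⟩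
      rw [← Module.End.mul_apply, ← pow_succ]
      exact hU u hu)
    set W := U ⊓ LinearMap.ker q with hW
    have hTW : ∀ w ∈ W, T w ∈ W := fun w hw => ⟨hT w hw.1, by
      have h : q w = 0 := hw.2
      show q (T w) = 0
      rw [← Module.End.mul_apply, ← hcomm, Module.End.mul_apply, h, map_zero]⟩
    have hres : ∀ (r : (ZMod 2)[X]) (w : W),
        ((aeval (T.restrict hTW) r w : W) : M) = aeval T r w := by
      intro r w
      induction r using Polynomial.induction_on' generalizing w with
      | add r r' h h' => simp [h w, h' w]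
      | monomial k c =>
        simp only [aeval_monomial, Module.algebraMap_end_apply, Module.End.mul_apply]
        rw [Submodule.coe_smul]
        congr 1
        induction k generalizing w with
        | zero => rfl
        | succ k ih => rw [pow_succ, pow_succ, Module.End.mul_apply, Module.End.mul_apply, ih]; rfl
    haveI : Fact (Irreducible p) := ⟨hp⟩
    have hp0 : p ≠ 0 := hp.ne_zero
    have hzero : aeval (T.restrict hTW) p = 0 := by
      ext w
      rw [hres]
      exact w.2.2
    let ρ : AdjoinRoot p →ₐ[ZMod 2] Module.End (ZMod 2) W :=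
      Ideal.Quotient.liftₐ (Ideal.span {p}) (aeval (T.restrict hTW)) fun a ha => by
        obtain ⟨b, rfl⟩ := Ideal.mem_span_singleton'.mp ha
        rw [map_mul, hzero, mul_zero]
    letI : Module (AdjoinRoot p) W := Module.compHom W ρ.toRingHom
    haveI : Finite (AdjoinRoot p) := by
      haveI := (AdjoinRoot.powerBasis hp0).finite
      exact Module.finite_of_finite (ZMod 2)
    haveI : Module.Finite (AdjoinRoot p) W := Module.Finite.of_finite
    have hF : Nat.card (AdjoinRoot p) = 2 ^ p.natDegree := by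
      haveI := (AdjoinRoot.powerBasis hp0).finite
      rw [Module.natCard_eq_pow_finrank (K := ZMod 2), Nat.card_zmod,
        (AdjoinRoot.powerBasis hp0).finrank, AdjoinRoot.powerBasis_dim]
    have hWcard := Module.natCard_eq_pow_finrank (K := AdjoinRoot p) (V := W)
    rw [hF] at hWcard
    refine ⟨Module.finrank (AdjoinRoot p) W + i, ?_⟩
    rw [pow_add, ← hWcard, ← hi]
    have hker : Nat.card (LinearMap.ker (q.domRestrict U)) = Nat.card W := Nat.card_congr
      { toFun := fun u => ⟨(u : U), (u : U).2, u.2⟩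
        invFun := fun w => ⟨⟨w, w.2.1⟩, w.2.2⟩
        left_inv := fun _ => rfl
        right_inv := fun _ => rfl }
    rw [← hker, Submodule.card_eq_card_quotient_mul_card (LinearMap.ker (q.domRestrict U)),
      Nat.card_congr (q.domRestrict U).quotKerEquivRange.toEquiv, LinearMap.range_domRestrict]

variable {P Z : Type*} [AddCommGroup P] [Module (ZMod 2) P] [Finite P] [AddCommGroup Z]
  [Module (ZMod 2) Z] [Finite Z]

/-- A vector space over a finite field of characteristic two has a linear map whose minimal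
polynomial over two elements is irreducible of the full degree. -/
theorem exists_singer {K S : Type*} [Field K] [Finite K] [CharP K 2] [AddCommGroup S] [Module K S]
    [Finite S] [Nontrivial S] :
    ∃ (T : S →ₗ[K] S) (p : (ZMod 2)[X]), Irreducible p ∧ Nat.card S = 2 ^ p.natDegree ∧
      ∀ (ι : S →+ P) (g : Module.End (ZMod 2) P), (∀ s, g (ι s) = ι (T s)) →
        ∀ s, aeval g p (ι s) = 0 := by
  haveI : Fact (Nat.Prime 2) := ⟨Nat.prime_two⟩
  haveI : Module.Finite K S := Module.Finite.of_finite
  set m := Module.finrank K S with hm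
  haveI : NeZero m := ⟨(Module.finrank_pos (R := K) (M := S)).ne'⟩
  let F := FiniteField.Extension K 2 m
  let e : F ≃ₗ[K] S := LinearEquiv.ofFinrankEq F S (by rw [FiniteField.finrank_extension])
  haveI : Finite F := Finite.of_equiv S e.symm.toEquiv
  haveI : CharP F 2 := charP_of_injective_algebraMap (algebraMap K F).injective 2
  letI : Algebra (ZMod 2) F := ZMod.algebra F 2
  obtain ⟨ξ, hξ⟩ := Field.exists_primitive_element (ZMod 2) F
  have hint : IsIntegral (ZMod 2) ξ := IsIntegral.of_finite _ _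
  refine ⟨e.toLinearMap ∘ₗ (LinearMap.mulLeft K ξ) ∘ₗ e.symm.toLinearMap, minpoly (ZMod 2) ξ,
    minpoly.irreducible hint, ?_, fun ι g hg => ?_⟩
  · rw [(Field.primitive_element_iff_minpoly_natDegree_eq _ _).mp hξ,
      ← Nat.card_congr e.toEquiv, Module.natCard_eq_pow_finrank (K := ZMod 2), Nat.card_zmod]
  have hpoly : ∀ (q : (ZMod 2)[X]) (y : F), aeval g q (ι (e y)) = ι (e (aeval ξ q * y)) := by
    intro q y
    induction q using Polynomial.induction_on' with
    | add q q' h h' => simp [h, h', add_mul]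
    | monomial k c =>
      obtain rfl | rfl : c = 0 ∨ c = 1 := zmod_two_cases c
      · simp
      · simp only [aeval_monomial, map_one, one_mul]
        induction k with
        | zero => simp
        | succ k ih =>
          rw [pow_succ', pow_succ', Module.End.mul_apply, ih, hg, mul_assoc]
          simp
  intro s
  have := hpoly (minpoly (ZMod 2) ξ) (e.symm s)
  rwa [minpoly.aeval, zero_mul, map_zero, map_zero, e.apply_symm_apply] at this

/-- A module map with an irreducible factor of degree at least `log |L|`. -/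
theorem exists_large_factor [Nontrivial P] (L : Submodule (ZMod 2) (Module.End (ZMod 2) P))
    (hinj : ∀ l ∈ L, l ≠ 0 → Function.Injective l) :
    ∃ g ∈ Algebra.adjoin (ZMod 2) (L : Set (Module.End (ZMod 2) P)), ∃ p : (ZMod 2)[X],
      Irreducible p ∧ Nat.card L ≤ 2 ^ p.natDegree ∧ ∃ v : P, v ≠ 0 ∧ aeval g p v = 0 := by
  classical
  set R := Algebra.adjoin (ZMod 2) (L : Set (Module.End (ZMod 2) P)) with hR
  haveI : IsAtomic (Submodule R P) := inferInstance
  obtain ⟨S, hS, -⟩ := (IsAtomic.eq_bot_or_exists_atom_le (⊤ : Submodule R P)).resolve_left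
    top_ne_bot
  haveI : IsSimpleModule R S := isSimpleModule_iff_isAtom.mpr hS
  haveI : Finite (Module.End R S) := Finite.of_injective _ DFunLike.coe_injective
  letI : DivisionRing (Module.End R S) :=
    @Module.End.instDivisionRing R _ S _ _ (Classical.decEq _) _
  letI : Field (Module.End R S) := littleWedderburn _
  haveI : CharP (Module.End R S) 2 := by
    refine CharTwo.of_one_ne_zero_of_two_eq_zero one_ne_zero ?_
    refine (one_add_one_eq_two (R := Module.End R S)).symm.trans ?_
    refine LinearMap.ext fun s => Subtype.ext ?_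
    show (s : P) + s = 0
    rw [← two_smul (ZMod 2), show (2 : ZMod 2) = 0 by decide, zero_smul]
  haveI : Nontrivial S := IsSimpleModule.nontrivial R S
  obtain ⟨T, p, hp, hS2, hT⟩ := exists_singer (P := P) (K := Module.End R S) (S := S)
  haveI : Fintype S := Fintype.ofFinite S
  obtain ⟨r, hr⟩ := jacobson_density (R := R) (M := S) T Finset.univ
  obtain ⟨s₀, hs₀⟩ := exists_ne (0 : S)
  refine ⟨r, r.2, p, hp, hS2 ▸ ?_, s₀, fun h => hs₀ (Subtype.ext h), ?_⟩
  · refine Nat.card_le_card_of_injective
      (fun l : L => (⟨(l : Module.End (ZMod 2) P) s₀,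
        S.smul_mem ⟨_, Algebra.subset_adjoin l.2⟩ s₀.2⟩ : S)) fun a b h => ?_
    by_contra hne
    have h1 := hinj _ (L.sub_mem a.2 b.2) (sub_ne_zero.mpr fun e => hne (Subtype.ext e))
    refine hs₀ (Subtype.ext (h1 ?_))
    rw [LinearMap.sub_apply, ZeroMemClass.coe_zero, map_zero, sub_eq_zero]
    exact congrArg Subtype.val h
  · exact hT S.subtype.toAddMonoidHom r
      (fun s => (congrArg Subtype.val (hr s (Finset.mem_univ _))).symm) s₀

/-- The counting lemma. -/
theorem card_mul_card_le [Nontrivial P] (A : Submodule (ZMod 2) (P →ₗ[ZMod 2] Z))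
    (L : Submodule (ZMod 2) (Module.End (ZMod 2) P))
    (hinj : ∀ l ∈ L, l ≠ 0 → Function.Injective l) (hcomp : ∀ f ∈ A, ∀ l ∈ L, f ∘ₗ l ∈ A)
    (hD : ∀ D ≤ A, D ≠ ⊥ → ∀ K : Submodule (ZMod 2) P, (∀ f ∈ D, ∀ v ∈ K, f v = 0) →
      Nat.card D * Nat.card K < Nat.card P) :
    Nat.card A * Nat.card L ≤ Nat.card P := by
  obtain ⟨g, hg, p, hp, hLs, v₀, hv₀, hpv₀⟩ := exists_large_factor L hinj
  have hclose : ∀ r ∈ Algebra.adjoin (ZMod 2) (L : Set (Module.End (ZMod 2) P)),
      ∀ f ∈ A, f ∘ₗ r ∈ A := by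
    intro r hr
    induction hr using Algebra.adjoin_induction with
    | mem l hl => exact fun f hf => hcomp f hf l hl
    | algebraMap c =>
      intro f hf
      rw [Algebra.algebraMap_eq_smul_one, LinearMap.comp_smul, Module.End.one_eq_id,
        LinearMap.comp_id]
      exact A.smul_mem c hf
    | add a b _ _ ha hb =>
      intro f hf
      rw [LinearMap.comp_add]
      exact A.add_mem (ha f hf) (hb f hf)
    | mul a b _ _ ha hb =>
      intro f hf
      rw [Module.End.mul_eq_comp, ← LinearMap.comp_assoc]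
      exact hb _ (ha f hf)
  haveI : Finite (Module.End (ZMod 2) P) := Finite.of_injective _ DFunLike.coe_injective
  haveI : Finite (P →ₗ[ZMod 2] Z) := Finite.of_injective _ DFunLike.coe_injective
  set u := aeval g p with hu
  obtain ⟨n, hn0, hidem⟩ := exists_idempotent_pow u
  set f₀ := u ^ n with hf₀
  have hf₀R : f₀ ∈ Algebra.adjoin (ZMod 2) (L : Set (Module.End (ZMod 2) P)) :=
    pow_mem (Algebra.adjoin_le (Set.singleton_subset_iff.mpr hg) (aeval_mem_adjoin_singleton _ g)) n
  -- the two parts
  let comp : (P →ₗ[ZMod 2] Z) →ₗ[ZMod 2] (P →ₗ[ZMod 2] Z) := LinearMap.lcomp (ZMod 2) Z f₀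
  let A₁ := A ⊓ LinearMap.ker comp
  let A₂ := A ⊓ LinearMap.ker (comp - LinearMap.id)
  have hA : Nat.card A ≤ Nat.card A₁ * Nat.card A₂ := by
    rw [← Nat.card_prod]
    refine Nat.card_le_card_of_injective (fun f : A =>
      ((⟨(f : P →ₗ[ZMod 2] Z) - (f : P →ₗ[ZMod 2] Z) ∘ₗ f₀,
          A.sub_mem f.2 (hclose _ hf₀R f f.2), ?_⟩ : A₁),
        (⟨(f : P →ₗ[ZMod 2] Z) ∘ₗ f₀, hclose _ hf₀R f f.2, ?_⟩ : A₂))) fun a b h => ?_
    · show ((f : P →ₗ[ZMod 2] Z) - (f : P →ₗ[ZMod 2] Z) ∘ₗ f₀) ∘ₗ f₀ = 0
      rw [LinearMap.sub_comp, LinearMap.comp_assoc, ← Module.End.mul_eq_comp, hidem, sub_self]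
    · show ((f : P →ₗ[ZMod 2] Z) ∘ₗ f₀) ∘ₗ f₀ - (f : P →ₗ[ZMod 2] Z) ∘ₗ f₀ = 0
      rw [LinearMap.comp_assoc, ← Module.End.mul_eq_comp, hidem, sub_self]
    · simp only [Prod.mk.injEq, Subtype.mk.injEq] at h
      obtain ⟨h1, h2⟩ := h
      exact Subtype.ext ((sub_add_cancel _ _).symm.trans
        ((congrArg₂ (fun (x : A₁) (y : A₂) => (x : P →ₗ[ZMod 2] Z) + (y : P →ₗ[ZMod 2] Z)) h1 h2).trans (sub_add_cancel _ _)))
  have hcard : Nat.card (LinearMap.ker f₀) * Nat.card (LinearMap.range f₀) = Nat.card P := by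
    rw [Submodule.card_eq_card_quotient_mul_card (LinearMap.ker f₀),
      Nat.card_congr f₀.quotKerEquivRange.toEquiv, mul_comm]
  have hR0 : 0 < Nat.card (LinearMap.range f₀) := Nat.card_pos
  have hK0 : 0 < Nat.card (LinearMap.ker f₀) := Nat.card_pos
  -- the second part
  have h2 : Nat.card A₂ ≤ Nat.card (LinearMap.range f₀) := by
    rcases eq_or_ne A₂ ⊥ with h | h
    · rw [h, Nat.card_unique]; omega
    · have h1 := hD A₂ inf_le_left h (LinearMap.ker f₀) fun f hf v hv => by
        have h' : f ∘ₗ f₀ - f = 0 := hf.2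
        rw [sub_eq_zero] at h'
        rw [← h', LinearMap.comp_apply, LinearMap.mem_ker.mp hv, map_zero]
      rw [← hcard, mul_comm] at h1
      exact (Nat.lt_of_mul_lt_mul_left h1).le
  -- the first part
  have hgc : Commute g f₀ := by
    refine Commute.pow_right ?_ n
    have h := (commute_X p).map (aeval g)
    rw [aeval_X] at h
    exact h
  have hgker : ∀ v ∈ LinearMap.ker f₀, g v ∈ LinearMap.ker f₀ := fun v hv => by
    rw [LinearMap.mem_ker, ← Module.End.mul_apply, ← hgc.eq, Module.End.mul_apply,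
      LinearMap.mem_ker.mp hv, map_zero]
  obtain ⟨i, hi⟩ := card_isotypic g hp n (LinearMap.ker f₀) hgker fun v hv => hv
  let T : Module.End (ZMod 2) (P →ₗ[ZMod 2] Z) := LinearMap.lcomp (ZMod 2) Z g
  have hT : ∀ (q : (ZMod 2)[X]) (f : P →ₗ[ZMod 2] Z), aeval T q f = f ∘ₗ aeval g q := by
    intro q f
    induction q using Polynomial.induction_on' with
    | add q q' h h' => simp [h, h', LinearMap.comp_add]
    | monomial k c =>
      simp only [aeval_monomial, Module.End.mul_apply, Module.algebraMap_end_apply]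
      rw [show (algebraMap (ZMod 2) (Module.End (ZMod 2) P) c * g ^ k) = c • g ^ k from
        (Algebra.smul_def c (g ^ k)).symm, LinearMap.comp_smul]
      congr 1
      induction k generalizing f with
      | zero => rfl
      | succ k ih =>
        rw [pow_succ, Module.End.mul_apply, ih, pow_succ', Module.End.mul_eq_comp,
          ← LinearMap.comp_assoc]
        rfl
  have hT₁ : ∀ f ∈ A₁, T f ∈ A₁ := fun f hf => by
    refine ⟨hclose g hg f hf.1, ?_⟩
    show (f ∘ₗ g) ∘ₗ f₀ = 0
    rw [LinearMap.comp_assoc, ← Module.End.mul_eq_comp, hgc.eq, Module.End.mul_eq_comp,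
      ← LinearMap.comp_assoc, show f ∘ₗ f₀ = 0 from hf.2, LinearMap.zero_comp]
  obtain ⟨j, hj⟩ := card_isotypic T hp n A₁ hT₁ fun f hf => by
    rw [← map_pow, hT, map_pow]
    exact hf.2
  have hs : 0 < 2 ^ p.natDegree := by positivity
  have hkey : Nat.card A₁ * 2 ^ p.natDegree ≤ Nat.card (LinearMap.ker f₀) := by
    have h1 : 1 < 2 ^ p.natDegree := Nat.one_lt_two_pow hp.natDegree_pos.ne'
    rw [hi, hj, ← pow_succ]
    refine Nat.pow_le_pow_right hs ?_
    rcases eq_or_ne A₁ ⊥ with h | h
    · have hj0 : j = 0 := by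
        rw [h, Nat.card_unique] at hj
        exact (Nat.pow_eq_one.mp hj.symm).resolve_left h1.ne'
      have hi0 : i ≠ 0 := fun h0 => by
        rw [h0, pow_zero] at hi
        haveI := (Nat.card_eq_one_iff_unique.mp hi).1
        refine hv₀ (congrArg Subtype.val (Subsingleton.elim
          (⟨v₀, ?_⟩ : LinearMap.ker f₀) 0))
        obtain ⟨k, rfl⟩ := Nat.exists_eq_succ_of_ne_zero hn0.ne'
        rw [LinearMap.mem_ker, hf₀, pow_succ, Module.End.mul_apply, hpv₀, map_zero]
      omega
    · have h3 := hD A₁ inf_le_left h (LinearMap.range f₀) fun f hf v hv => by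
        obtain ⟨w, rfl⟩ := hv
        exact LinearMap.congr_fun (show f ∘ₗ f₀ = 0 from hf.2) w
      rw [← hcard] at h3
      have h4 := Nat.lt_of_mul_lt_mul_right h3
      rw [hi, hj] at h4
      exact (Nat.pow_lt_pow_iff_right h1).mp h4
  calc Nat.card A * Nat.card L ≤ Nat.card A₁ * Nat.card A₂ * 2 ^ p.natDegree :=
        Nat.mul_le_mul hA hLs
    _ = Nat.card A₁ * 2 ^ p.natDegree * Nat.card A₂ := by ring
    _ ≤ Nat.card (LinearMap.ker f₀) * Nat.card (LinearMap.range f₀) := Nat.mul_le_mul hkey h2
    _ = Nat.card P := hcard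

end CfsgLib.SThreeFree
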