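import Mathlib
import Cfsg.Agent.Lib.Offender.BestReplacement
import Cfsg.Agent.Lib.Coprime.Action
import Cfsg.Agent.Lib.Conjugacy.Control

/-!
Best offenders on the invariant subgroups of a module, the subgroup they generate, and the largest
invariant subgroup on which all best offenders of a given group act trivially.
-/

set_option autoImplicit false
set_option linter.style.haveILetI false
set_option linter.unusedSectionVars false

namespace CfsgLib.SThreeFree

open CfsgLib.Offender (fixSub mem_fixSub fixSub_anti)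
open CfsgLib.Conjugacy (cj mem_cj conj_mem_cj cj_cj cj_one cj_mono card_cj)

variable {X : Type*} [Group X] {V : Type*} [AddCommGroup V] {φ : X →* AddMonoid.End V}

theorem act_mul (φ : X →* AddMonoid.End V) (x y : X) (v : V) : φ (x * y) v = φ x (φ y v) := by
  rw [map_mul]; rfl

theorem act_one (φ : X →* AddMonoid.End V) (v : V) : φ 1 v = v := by rw [map_one]; rfl

theorem act_inv_act (φ : X →* AddMonoid.End V) (x : X) (v : V) : φ x⁻¹ (φ x v) = v := by
  rw [← act_mul, inv_mul_cancel, act_one]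

theorem act_act_inv (φ : X →* AddMonoid.End V) (x : X) (v : V) : φ x (φ x⁻¹ v) = v := by
  rw [← act_mul, mul_inv_cancel, act_one]

/-- The elements preserving a subgroup of `V`. -/
def stab (φ : X →* AddMonoid.End V) (U : AddSubgroup V) : Subgroup X where
  carrier := {x | ∀ v, φ x v ∈ U ↔ v ∈ U}
  one_mem' := fun v => by rw [act_one]
  mul_mem' := fun {x y} hx hy v => by rw [act_mul, hx, hy]
  inv_mem' := fun {x} hx v => by
    conv_rhs => rw [← act_act_inv φ x v]
    exact (hx _).symm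

theorem mem_stab {U : AddSubgroup V} {x : X} : x ∈ stab φ U ↔ ∀ v, φ x v ∈ U ↔ v ∈ U := Iff.rfl

/-- The elements fixing a subgroup of `V` pointwise. -/
def fixer (φ : X →* AddMonoid.End V) (U : AddSubgroup V) : Subgroup X where
  carrier := {x | ∀ v ∈ U, φ x v = v}
  one_mem' := fun v _ => act_one φ v
  mul_mem' := fun {x y} hx hy v hv => by rw [act_mul, hy v hv, hx v hv]
  inv_mem' := fun {x} hx v hv => by
    conv_lhs => rw [← hx v hv]
    exact act_inv_act φ x v

theorem mem_fixer {U : AddSubgroup V} {x : X} : x ∈ fixer φ U ↔ ∀ v ∈ U, φ x v = v := Iff.rfl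

theorem fixer_anti {U U' : AddSubgroup V} (h : U' ≤ U) : fixer φ U ≤ fixer φ U' :=
  fun _ hx v hv => hx v (h hv)

theorem fixer_le_stab (U : AddSubgroup V) : fixer φ U ≤ stab φ U := fun x hx v => by
  refine ⟨fun h => ?_, fun h => by rw [hx v h]; exact h⟩
  have h1 := (fixer φ U).inv_mem hx _ h
  rw [act_inv_act] at h1
  exact h1 ▸ h

theorem le_fixer_iff {U : AddSubgroup V} {A : Subgroup X} :
    A ≤ fixer φ U ↔ U ≤ fixSub φ A :=
  ⟨fun h v hv a ha => h ha v hv, fun h a ha v hv => h hv a ha⟩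

theorem fixer_sup (U₁ U₂ : AddSubgroup V) : fixer φ (U₁ ⊔ U₂) = fixer φ U₁ ⊓ fixer φ U₂ := by
  refine le_antisymm (le_inf (fixer_anti le_sup_left) (fixer_anti le_sup_right)) fun x hx v hv => ?_
  obtain ⟨a, ha, b, hb, rfl⟩ := AddSubgroup.mem_sup.mp hv
  rw [map_add, hx.1 a ha, hx.2 b hb]

theorem stab_sup (U₁ U₂ : AddSubgroup V) : stab φ U₁ ⊓ stab φ U₂ ≤ stab φ (U₁ ⊔ U₂) := by
  intro x hx v
  constructor
  · intro h
    obtain ⟨a, ha, b, hb, hab⟩ := AddSubgroup.mem_sup.mp h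
    rw [← act_inv_act φ x v, ← hab, map_add]
    exact add_mem (AddSubgroup.mem_sup_left ((((stab φ U₁).inv_mem hx.1) a).mpr ha))
      (AddSubgroup.mem_sup_right ((((stab φ U₂).inv_mem hx.2) b).mpr hb))
  · intro h
    obtain ⟨a, ha, b, hb, rfl⟩ := AddSubgroup.mem_sup.mp h
    rw [map_add]
    exact add_mem (AddSubgroup.mem_sup_left ((hx.1 a).mpr ha))
      (AddSubgroup.mem_sup_right ((hx.2 b).mpr hb))

theorem le_stab_bot (P : Subgroup X) : P ≤ stab φ ⊥ := fun x _ v => by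
  rw [AddSubgroup.mem_bot, AddSubgroup.mem_bot]
  refine ⟨fun h => ?_, fun h => by rw [h, map_zero]⟩
  rw [← act_inv_act φ x v, h, map_zero]

theorem mem_stab_of_forall [Finite V] {U : AddSubgroup V} {x : X} (h : ∀ v ∈ U, φ x v ∈ U) :
    x ∈ stab φ U := fun v => by
  refine ⟨fun hv => ?_, h v⟩
  have hsurj : Function.Surjective (fun u : U => (⟨φ x u, h u u.2⟩ : U)) :=
    Finite.injective_iff_surjective.mp fun a b e => Subtype.ext (by
      have := congrArg (fun u : U => φ x⁻¹ (u : V)) e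
      simpa [act_inv_act] using this)
  obtain ⟨u, hu⟩ := hsurj ⟨φ x v, hv⟩
  have h1 := congrArg (fun u : U => φ x⁻¹ (u : V)) hu
  simp only [act_inv_act] at h1
  exact h1 ▸ u.2

/-- The image `g U`. -/
def mv (φ : X →* AddMonoid.End V) (g : X) (U : AddSubgroup V) : AddSubgroup V :=
  U.map (φ g : V →+ V)

theorem mem_mv {g : X} {U : AddSubgroup V} {v : V} : v ∈ mv φ g U ↔ φ g⁻¹ v ∈ U := by
  constructor
  · rintro ⟨u, hu, rfl⟩
    show φ g⁻¹ (φ g u) ∈ U
    rwa [act_inv_act]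
  · exact fun h => ⟨φ g⁻¹ v, h, act_act_inv φ g v⟩

theorem act_mem_mv {g : X} {U : AddSubgroup V} {v : V} (hv : v ∈ U) : φ g v ∈ mv φ g U :=
  mem_mv.mpr (by rwa [act_inv_act])

theorem mv_one (U : AddSubgroup V) : mv φ 1 U = U := by
  ext v; rw [mem_mv, inv_one, act_one]

theorem mv_mul (g h : X) (U : AddSubgroup V) : mv φ (g * h) U = mv φ g (mv φ h U) := by
  ext v; rw [mem_mv, mem_mv, mem_mv, mul_inv_rev, act_mul]

theorem mv_mono {g : X} {U U' : AddSubgroup V} (h : U ≤ U') : mv φ g U ≤ mv φ g U' :=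
  fun _ hv => mem_mv.mpr (h (mem_mv.mp hv))

theorem card_mv (g : X) (U : AddSubgroup V) : Nat.card (mv φ g U) = Nat.card U :=
  (Nat.card_congr
    { toFun := fun u : U => (⟨φ g u, act_mem_mv u.2⟩ : mv φ g U)
      invFun := fun v => ⟨φ g⁻¹ v, mem_mv.mp v.2⟩
      left_inv := fun u => Subtype.ext (act_inv_act φ g u)
      right_inv := fun v => Subtype.ext (act_act_inv φ g v) }).symm

theorem mem_stab_iff_mv {g : X} {U : AddSubgroup V} : g ∈ stab φ U ↔ mv φ g U = U := by
  constructor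
  · intro h
    ext v
    rw [mem_mv]
    exact (stab φ U).inv_mem h v
  · intro h v
    conv_lhs => rw [← h]
    rw [mem_mv, act_inv_act]

theorem mem_stab_mv {g x : X} {U : AddSubgroup V} (hx : x ∈ stab φ U) :
    g * x * g⁻¹ ∈ stab φ (mv φ g U) := by
  rw [mem_stab_iff_mv] at hx ⊢
  rw [← mv_mul, inv_mul_cancel_right, mv_mul, hx]

theorem mem_fixer_mv {g x : X} {U : AddSubgroup V} (hx : x ∈ fixer φ U) :
    g * x * g⁻¹ ∈ fixer φ (mv φ g U) := fun v hv => by
  rw [act_mul, act_mul, hx _ (mem_mv.mp hv), act_act_inv]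

theorem cj_le_stab_mv {g : X} {U : AddSubgroup V} {A : Subgroup X} (h : A ≤ stab φ U) :
    cj g A ≤ stab φ (mv φ g U) := by
  rintro _ ⟨a, ha, rfl⟩
  exact mem_stab_mv (h ha)

theorem cj_le_fixer_mv {g : X} {U : AddSubgroup V} {A : Subgroup X} (h : A ≤ fixer φ U) :
    cj g A ≤ fixer φ (mv φ g U) := by
  rintro _ ⟨a, ha, rfl⟩
  exact mem_fixer_mv (h ha)

theorem fixer_conj_mem {U : AddSubgroup V} {x g : X} (hg : g ∈ stab φ U) (hx : x ∈ fixer φ U) :
    g * x * g⁻¹ ∈ fixer φ U := by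
  have := mem_fixer_mv (g := g) hx
  rwa [mem_stab_iff_mv.mp hg] at this

/-- The fixed points of `A` in `U`. -/
def fixIn (φ : X →* AddMonoid.End V) (U : AddSubgroup V) (A : Subgroup X) : AddSubgroup V :=
  U ⊓ fixSub φ A

theorem fixIn_anti {U : AddSubgroup V} {A B : Subgroup X} (h : B ≤ A) :
    fixIn φ U A ≤ fixIn φ U B :=
  inf_le_inf_left U (fixSub_anti φ h)

theorem fixIn_eq_self {U : AddSubgroup V} {A : Subgroup X} (h : A ≤ fixer φ U) :
    fixIn φ U A = U :=
  inf_eq_left.mpr (le_fixer_iff.mp h)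

theorem fixSub_cj (g : X) (A : Subgroup X) : fixSub φ (cj g A) = mv φ g (fixSub φ A) := by
  ext v
  rw [mem_mv]
  constructor
  · intro h a ha
    have := h _ (conj_mem_cj (g := g) ha)
    rw [act_mul, act_mul] at this
    have h2 := congrArg (φ g⁻¹) this
    rwa [act_inv_act] at h2
  · rintro h _ ⟨a, ha, rfl⟩
    show φ (g * a * g⁻¹) v = v
    rw [act_mul, act_mul, h a ha, act_act_inv]

theorem fixIn_cj (g : X) (U : AddSubgroup V) (A : Subgroup X) :
    fixIn φ (mv φ g U) (cj g A) = mv φ g (fixIn φ U A) := by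
  rw [fixIn, fixSub_cj]
  ext v
  simp only [AddSubgroup.mem_inf, mem_mv]
  rfl

/-- The order of the image of `A` on `U`. -/
noncomputable def img (φ : X →* AddMonoid.End V) (U : AddSubgroup V) (A : Subgroup X) : ℕ :=
  (fixer φ U).relIndex A

theorem img_eq_one {U : AddSubgroup V} {A : Subgroup X} : img φ U A = 1 ↔ A ≤ fixer φ U :=
  Subgroup.relIndex_eq_one

theorem img_cj (g : X) (U : AddSubgroup V) (A : Subgroup X) :
    img φ (mv φ g U) (cj g A) = img φ U A := by
  have h : fixer φ (mv φ g U) = cj g (fixer φ U) := by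
    refine le_antisymm (fun x hx => ?_) (cj_le_fixer_mv le_rfl)
    rw [mem_cj]
    have := mem_fixer_mv (g := g⁻¹) hx
    rwa [← mv_mul, inv_mul_cancel, mv_one, inv_inv] at this
  rw [img, img, h]
  exact Subgroup.relIndex_map_map_of_injective _ _ (MulAut.conj g).injective

variable [Finite X]

theorem img_pos (U : AddSubgroup V) (A : Subgroup X) : 0 < img φ U A :=
  Nat.pos_of_ne_zero (Subgroup.index_ne_zero_of_finite (H := (fixer φ U).subgroupOf A))

theorem img_mono {U : AddSubgroup V} {A B : Subgroup X} (h : B ≤ A) : img φ U B ≤ img φ U A :=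
  Subgroup.relIndex_le_of_le_right h
    (Subgroup.index_ne_zero_of_finite (H := (fixer φ U).subgroupOf A))

/-- The measure `|A / C_A(U)| |C_U(A)|`. -/
noncomputable def meas (φ : X →* AddMonoid.End V) (U : AddSubgroup V) (A : Subgroup X) : ℕ :=
  img φ U A * Nat.card (fixIn φ U A)

theorem meas_cj (g : X) (U : AddSubgroup V) (A : Subgroup X) :
    meas φ (mv φ g U) (cj g A) = meas φ U A := by
  rw [meas, meas, img_cj, fixIn_cj, card_mv]

theorem meas_of_le_fixer {U : AddSubgroup V} {A : Subgroup X} (h : A ≤ fixer φ U) :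
    meas φ U A = Nat.card U := by
  rw [meas, img_eq_one.mpr h, fixIn_eq_self h, one_mul]

/-- A group with elementary abelian image on `U` of largest measure among its subgroups. -/
structure Best (φ : X →* AddMonoid.End V) (U : AddSubgroup V) (A : Subgroup X) : Prop where
  inv : A ≤ stab φ U
  sq : ∀ a ∈ A, a * a ∈ fixer φ U
  max : ∀ B ≤ A, meas φ U B ≤ meas φ U A

theorem Best.card_le {U : AddSubgroup V} {A : Subgroup X} (h : Best φ U A) :
    Nat.card U ≤ meas φ U A :=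
  (meas_of_le_fixer (φ := φ) (U := U) bot_le).ge.trans (h.max ⊥ bot_le)

theorem Best.cj {U : AddSubgroup V} {A : Subgroup X} (h : Best φ U A) (g : X) :
    Best φ (mv φ g U) (cj g A) := by
  refine ⟨cj_le_stab_mv h.inv, ?_, fun B hB => ?_⟩
  · rintro _ ⟨a, ha, rfl⟩
    rw [← map_mul]
    exact mem_fixer_mv (h.sq a ha)
  · obtain ⟨B', rfl⟩ : ∃ B', CfsgLib.Conjugacy.cj g B' = B :=
      ⟨CfsgLib.Conjugacy.cj g⁻¹ B, by rw [cj_cj, mul_inv_cancel, cj_one]⟩
    rw [meas_cj, meas_cj]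
    refine h.max B' fun b hb => ?_
    have := hB (conj_mem_cj (g := g) hb)
    rw [mem_cj] at this
    simpa [mul_assoc] using this

variable [Finite V]

/-- A best offender stays one on every invariant subgroup. -/
theorem Best.restrict {N U : AddSubgroup V} {A : Subgroup X} (h : Best φ N A) (hUN : U ≤ N)
    (hA : A ≤ stab φ U) : Best φ U A := by
  refine ⟨hA, fun a ha => fixer_anti hUN (h.sq a ha), fun B hB => ?_⟩
  set K := A ⊓ fixer φ U with hK
  set B' := B ⊔ K with hB'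
  have hB'A : B' ≤ A := sup_le hB inf_le_left
  have hKN : fixer φ N ⊓ A ≤ K := le_inf inf_le_right (inf_le_left.trans (fixer_anti hUN))
  -- the multiplicativity of the images
  have hmul : ∀ C : Subgroup X, K ≤ C → C ≤ A →
      img φ N C = (fixer φ N ⊓ A).relIndex K * img φ U C := by
    intro C hKC hCA
    have e1 : img φ N C = (fixer φ N ⊓ A).relIndex C := by
      rw [img, ← Subgroup.inf_relIndex_right (fixer φ N), ← Subgroup.inf_relIndex_right
        (fixer φ N ⊓ A), inf_assoc, inf_eq_right.mpr hCA]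
    have e2 : img φ U C = K.relIndex C := by
      rw [img, ← Subgroup.inf_relIndex_right (fixer φ U), ← Subgroup.inf_relIndex_right K, hK,
        inf_assoc, inf_left_comm, inf_eq_right.mpr hCA]
    rw [e1, e2]
    exact (Subgroup.relIndex_mul_relIndex _ _ _ hKN hKC).symm
  have hc : 0 < (fixer φ N ⊓ A).relIndex K :=
    Nat.pos_of_ne_zero (Subgroup.index_ne_zero_of_finite (H := (fixer φ N ⊓ A).subgroupOf K))
  have h1 : img φ U B' * Nat.card (fixIn φ N B') ≤ img φ U A * Nat.card (fixIn φ N A) := by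
    have := h.max B' hB'A
    rw [meas, meas, hmul B' le_sup_right hB'A, hmul A inf_le_left le_rfl, mul_assoc,
      mul_assoc] at this
    exact Nat.le_of_mul_le_mul_left this hc
  have hfix : fixIn φ U B ≤ fixIn φ U B' := fun v hv =>
    ⟨hv.1, CfsgLib.Offender.fixSub_inf_le φ B K ⟨hv.2, fun k hk => hk.2 v hv.1⟩⟩
  have h2 : Nat.card (fixIn φ N A) * Nat.card (fixIn φ U B') ≤
      Nat.card (fixIn φ N B') * Nat.card (fixIn φ U A) := by
    refine (CfsgLib.Offender.card_mul_card_le_addSubgroup _ _).trans (Nat.mul_le_mul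
      (AddSubgroup.card_le_of_le (sup_le (fixIn_anti hB'A) (inf_le_inf_right _ hUN)))
      (AddSubgroup.card_le_of_le fun v hv => ⟨hv.2.1, hv.1.2⟩))
  refine Nat.le_of_mul_le_mul_right ?_ (Nat.card_pos (α := fixIn φ N A))
  calc meas φ U B * Nat.card (fixIn φ N A)
      ≤ img φ U B' * Nat.card (fixIn φ U B') * Nat.card (fixIn φ N A) :=
        Nat.mul_le_mul_right _ (Nat.mul_le_mul (img_mono le_sup_left)
          (AddSubgroup.card_le_of_le hfix))
    _ = img φ U B' * (Nat.card (fixIn φ N A) * Nat.card (fixIn φ U B')) := by ring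
    _ ≤ img φ U B' * (Nat.card (fixIn φ N B') * Nat.card (fixIn φ U A)) :=
        Nat.mul_le_mul_left _ h2
    _ = img φ U B' * Nat.card (fixIn φ N B') * Nat.card (fixIn φ U A) := by ring
    _ ≤ img φ U A * Nat.card (fixIn φ N A) * Nat.card (fixIn φ U A) := Nat.mul_le_mul_right _ h1
    _ = meas φ U A * Nat.card (fixIn φ N A) := by rw [meas]; ring

/-- A group with `|U| ≤ meas` and nontrivial image contains a nontrivial best offender. -/
theorem exists_best {U : AddSubgroup V} {A : Subgroup X} (hinv : A ≤ stab φ U)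
    (hsq : ∀ a ∈ A, a * a ∈ fixer φ U) (hoff : Nat.card U ≤ meas φ U A)
    (hne : ¬ A ≤ fixer φ U) : ∃ B ≤ A, Best φ U B ∧ ¬ B ≤ fixer φ U := by
  obtain ⟨B, hBA, hB⟩ := (Set.toFinite {B : Subgroup X | B ≤ A}).exists_maximalFor
    (meas φ U) _ ⟨A, show A ≤ A from le_rfl⟩
  have hmax : ∀ C ≤ A, meas φ U C ≤ meas φ U B := fun C hC => by
    by_contra hlt
    exact hlt (hB hC (not_le.mp hlt).le)
  by_cases hBt : B ≤ fixer φ U
  · exact ⟨A, le_rfl, ⟨hinv, hsq, fun C hC => ((hmax C hC).trans (meas_of_le_fixer hBt).le).trans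
      hoff⟩, hne⟩
  · exact ⟨B, hBA, ⟨hBA.trans hinv, fun b hb => hsq b (hBA hb), fun C hC => hmax C (hC.trans hBA)⟩,
      hBt⟩

/-- The subgroup generated by the best offenders on `U` in `P`. -/
def jOf (φ : X →* AddMonoid.End V) (U : AddSubgroup V) (P : Subgroup X) : Subgroup X :=
  sSup {A | A ≤ P ∧ Best φ U A}

theorem jOf_le (U : AddSubgroup V) (P : Subgroup X) : jOf φ U P ≤ P := sSup_le fun _ h => h.1

theorem le_jOf {U : AddSubgroup V} {P A : Subgroup X} (h : A ≤ P) (hA : Best φ U A) :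
    A ≤ jOf φ U P := le_sSup ⟨h, hA⟩

theorem jOf_le_iff {U : AddSubgroup V} {P K : Subgroup X} :
    jOf φ U P ≤ K ↔ ∀ A ≤ P, Best φ U A → A ≤ K := by
  rw [jOf, sSup_le_iff]; exact ⟨fun h A h1 h2 => h A ⟨h1, h2⟩, fun h A hA => h A hA.1 hA.2⟩

theorem jOf_mono {U : AddSubgroup V} {P Q : Subgroup X} (h : P ≤ Q) : jOf φ U P ≤ jOf φ U Q :=
  jOf_le_iff.mpr fun _ hA hb => le_jOf (hA.trans h) hb

theorem jOf_eq {U : AddSubgroup V} {P Q : Subgroup X} (h : jOf φ U P ≤ Q) (hQP : Q ≤ P) :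
    jOf φ U Q = jOf φ U P :=
  le_antisymm (jOf_mono hQP) (jOf_le_iff.mpr fun _ hA hb => le_jOf ((le_jOf hA hb).trans h) hb)

theorem cj_jOf (g : X) (U : AddSubgroup V) (P : Subgroup X) :
    cj g (jOf φ U P) = jOf φ (mv φ g U) (cj g P) := by
  refine le_antisymm ?_ ?_
  · rw [cj, Subgroup.map_le_iff_le_comap, jOf_le_iff]
    intro A hA hb x hx
    exact le_jOf (cj_mono g hA) (hb.cj g) (conj_mem_cj hx)
  · refine jOf_le_iff.mpr fun A hA hb => ?_
    have h1 : cj g⁻¹ A ≤ jOf φ U P := by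
      refine le_jOf ?_ ?_
      · have := cj_mono g⁻¹ hA
        rwa [cj_cj, inv_mul_cancel, cj_one] at this
      · have := hb.cj g⁻¹
        rwa [← mv_mul, inv_mul_cancel, mv_one] at this
    have := cj_mono g h1
    rwa [cj_cj, mul_inv_cancel, cj_one] at this

theorem jOf_normalized {U : AddSubgroup V} {P : Subgroup X} {g : X} (hU : g ∈ stab φ U)
    (hP : g ∈ Subgroup.normalizer (P : Set X)) :
    g ∈ Subgroup.normalizer (jOf φ U P : Set X) := by
  rw [Subgroup.mem_normalizer_iff_map_conj_eq]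
  show cj g (jOf φ U P) = _
  rw [cj_jOf, mem_stab_iff_mv.mp hU, CfsgLib.Conjugacy.cj_eq_of_mem_normalizer hP]

/-- An invariant subgroup on which all best offenders in `P` act trivially. -/
def Stable (φ : X →* AddMonoid.End V) (U : AddSubgroup V) (P : Subgroup X) : Prop :=
  P ≤ stab φ U ∧ ∀ A ≤ P, Best φ U A → A ≤ fixer φ U

/-- The largest stable subgroup of `N`. -/
def wc (φ : X →* AddMonoid.End V) (N : AddSubgroup V) (P : Subgroup X) : AddSubgroup V :=
  sSup {U | U ≤ N ∧ Stable φ U P}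

theorem Stable.sup {U₁ U₂ : AddSubgroup V} {P : Subgroup X} (h₁ : Stable φ U₁ P)
    (h₂ : Stable φ U₂ P) : Stable φ (U₁ ⊔ U₂) P := by
  refine ⟨(le_inf h₁.1 h₂.1).trans (stab_sup U₁ U₂), fun A hA hb => ?_⟩
  rw [fixer_sup]
  exact le_inf (h₁.2 A hA (hb.restrict le_sup_left (hA.trans h₁.1)))
    (h₂.2 A hA (hb.restrict le_sup_right (hA.trans h₂.1)))

theorem wc_mem (N : AddSubgroup V) (P : Subgroup X) :
    wc φ N P ≤ N ∧ Stable φ (wc φ N P) P := by
  set 𝒮 := {U : AddSubgroup V | U ≤ N ∧ Stable φ U P} with h𝒮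
  have hbot : (⊥ : AddSubgroup V) ∈ 𝒮 :=
    ⟨bot_le, le_stab_bot P, fun A _ _ => fun a _ v hv => by
      rw [(AddSubgroup.mem_bot).mp hv, map_zero]⟩
  obtain ⟨M, hM⟩ := (Set.toFinite 𝒮).exists_maximal ⟨⊥, hbot⟩
  have he : wc φ N P = M := le_antisymm (sSup_le fun U hU =>
    le_sup_right.trans (hM.2 (⟨sup_le hM.1.1 hU.1, hM.1.2.sup hU.2⟩ : M ⊔ U ∈ 𝒮) le_sup_left))
    (le_sSup hM.1)
  rw [he]
  exact hM.1

theorem wc_le (N : AddSubgroup V) (P : Subgroup X) : wc φ N P ≤ N := (wc_mem N P).1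

theorem le_wc {N U : AddSubgroup V} {P : Subgroup X} (h : U ≤ N) (hU : Stable φ U P) :
    U ≤ wc φ N P := le_sSup ⟨h, hU⟩

theorem wc_mono {N N' : AddSubgroup V} {P : Subgroup X} (h : N ≤ N') : wc φ N P ≤ wc φ N' P :=
  le_wc ((wc_le N P).trans h) (wc_mem N P).2

theorem wc_anti {N : AddSubgroup V} {P Q : Subgroup X} (h : P ≤ Q) : wc φ N Q ≤ wc φ N P :=
  le_wc (wc_le N Q) ⟨h.trans (wc_mem N Q).2.1, fun A hA => (wc_mem N Q).2.2 A (hA.trans h)⟩

theorem wc_wc (N : AddSubgroup V) (P : Subgroup X) : wc φ (wc φ N P) P = wc φ N P :=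
  le_antisymm (wc_le _ _) (le_wc le_rfl (wc_mem N P).2)

theorem fixIn_le_wc (N : AddSubgroup V) (P : Subgroup X) : fixIn φ N P ≤ wc φ N P :=
  le_wc inf_le_left ⟨fun _ hx => fixer_le_stab _ (fun _ hv => hv.2 _ hx),
    fun _ hA _ _ ha _ hv => hv.2 _ (hA ha)⟩

theorem Best.le_fixer_wc {N : AddSubgroup V} {P A : Subgroup X} (hA : A ≤ P)
    (h : Best φ N A) : A ≤ fixer φ (wc φ N P) :=
  (wc_mem N P).2.2 A hA (h.restrict (wc_le N P) (hA.trans (wc_mem N P).2.1))

theorem jOf_le_fixer_wc {N : AddSubgroup V} {P : Subgroup X} :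
    jOf φ N P ≤ fixer φ (wc φ N P) :=
  jOf_le_iff.mpr fun _ hA hb => hb.le_fixer_wc hA

theorem wc_fixIn_jOf (N : AddSubgroup V) (P : Subgroup X) :
    wc φ (fixIn φ N (jOf φ N P)) P = wc φ N P := by
  refine le_antisymm (wc_mono inf_le_left) ?_
  rw [← wc_wc N P]
  exact wc_mono (le_inf (wc_le N P) (le_fixer_iff.mp jOf_le_fixer_wc))

theorem mv_wc (g : X) (N : AddSubgroup V) (P : Subgroup X) :
    mv φ g (wc φ N P) = wc φ (mv φ g N) (cj g P) := by
  have key : ∀ (g : X) (N : AddSubgroup V) (P : Subgroup X),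
      mv φ g (wc φ N P) ≤ wc φ (mv φ g N) (cj g P) := by
    intro g N P
    refine le_wc (mv_mono (wc_le N P)) ⟨cj_le_stab_mv (wc_mem N P).2.1, fun A hA hb => ?_⟩
    have hA' : cj g⁻¹ A ≤ P := by
      have := cj_mono g⁻¹ hA
      rwa [cj_cj, inv_mul_cancel, cj_one] at this
    have hb' := hb.cj g⁻¹
    rw [← mv_mul, inv_mul_cancel, mv_one] at hb'
    have := cj_le_fixer_mv (g := g) ((wc_mem N P).2.2 _ hA' hb')
    rwa [cj_cj, mul_inv_cancel, cj_one] at this
  refine le_antisymm (key g N P) ?_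
  have := mv_mono (φ := φ) (g := g) (key g⁻¹ (mv φ g N) (cj g P))
  rwa [← mv_mul, mul_inv_cancel, mv_one, ← mv_mul, inv_mul_cancel, mv_one, cj_cj, inv_mul_cancel,
    cj_one] at this

end CfsgLib.SThreeFree
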