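import Cfsg.Agent.Lib.SThreeFree.Offender
import Cfsg.Agent.Lib.LocalK.Factor

/-!
An `S₄`-free constrained group is the product of the centralizer of the centre of a Sylow
`2`-subgroup and the normalizer of the subgroup generated by its elementary abelian subgroups of
largest order (Glauberman).
-/

set_option autoImplicit false
set_option linter.style.haveILetI false
set_option linter.unusedSectionVars false

namespace CfsgLib.SThreeFree

open CfsgLib.Offender (fixSub)
open CfsgLib.PushUp (cd cd_pos MaxEl mem_centralizer_iff_conj)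
open CfsgLib.LocalK (je Fac je_eq_of_le exists_frattini)

universe u

theorem sign_conj_three : ∀ σ c : Equiv.Perm (Fin 3), Equiv.Perm.sign σ = -1 →
    Equiv.Perm.sign c = 1 → σ * c⁻¹ * σ⁻¹ = c := by decide

theorem orderOf_three_cycle : ∀ c : Equiv.Perm (Fin 3), Equiv.Perm.sign c = 1 → c * c * c = 1 := by
  decide

/-- A group mapping onto `S₃` has a `3`-element mapping nontrivially which some element inverts. -/
theorem exists_inverted_three {K : Type*} [Group K] [Finite K] (χ : K →* Equiv.Perm (Fin 3))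
    (hχ : Function.Surjective χ) :
    ∃ (r t : K) (j n : ℕ), χ r ≠ 1 ∧ r ^ 3 ^ j = 1 ∧ t ^ 2 ^ n = 1 ∧ t * r * t⁻¹ = r⁻¹ := by
  classical
  haveI : Fact (Nat.Prime 3) := ⟨Nat.prime_three⟩
  haveI : Fact (Nat.Prime 2) := ⟨Nat.prime_two⟩
  set M := (Equiv.Perm.sign.comp χ).ker with hM
  let R : Sylow 3 M := default
  set R' := (R : Subgroup M).map M.subtype with hR'
  have hR'p : IsPGroup 3 R' := R.2.map _
  obtain ⟨r₁, hr₁, hr₁1⟩ : ∃ r ∈ R', χ r ≠ 1 := by
    obtain ⟨x₀, hx₀⟩ := hχ (Equiv.swap 0 1 * Equiv.swap 1 2)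
    have hxM : x₀ ∈ M := by
      rw [hM, MonoidHom.mem_ker, MonoidHom.comp_apply, hx₀]
      decide
    obtain ⟨k, m, hm, hkm⟩ :=
      Nat.exists_eq_pow_mul_and_not_dvd (orderOf_pos x₀).ne' 3 (by norm_num)
    set y : M := (⟨x₀, hxM⟩ : M) ^ m with hy
    have hy3 : y ^ 3 ^ k = 1 := Subtype.ext (by
      rw [hy, ← pow_mul, mul_comm, SubmonoidClass.coe_pow, ← hkm]
      exact pow_orderOf_eq_one x₀)
    have hχy : χ (y : K) ≠ 1 := by
      rw [hy, SubmonoidClass.coe_pow, map_pow, hx₀]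
      intro h
      have h1 := orderOf_dvd_of_pow_eq_one h
      rw [orderOf_eq_prime (p := 3) (by decide) (by decide)] at h1
      exact hm h1
    have hyp : IsPGroup 3 (Subgroup.zpowers y) := by
      obtain ⟨i, -, hi⟩ := (Nat.dvd_prime_pow Nat.prime_three).mp (orderOf_dvd_of_pow_eq_one hy3)
      exact IsPGroup.of_card (n := i) (by rw [Nat.card_zpowers, hi])
    obtain ⟨T, hT⟩ := hyp.exists_le_sylow
    obtain ⟨g, hg⟩ := MulAction.exists_smul_eq M T R
    refine ⟨(g : K) * y * (g : K)⁻¹, ⟨g * y * g⁻¹, ?_, rfl⟩, ?_⟩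
    · rw [← hg]
      exact ⟨y, hT (Subgroup.mem_zpowers y), rfl⟩
    · rw [map_mul, map_mul, map_inv]
      intro h
      exact hχy (by rwa [mul_inv_eq_one, mul_eq_left] at h)
  obtain ⟨t₀, ht₀N, ht₀⟩ : ∃ t ∈ Subgroup.normalizer (R' : Set K), Equiv.Perm.sign (χ t) = -1 := by
    obtain ⟨s, hs⟩ := hχ (Equiv.swap 0 1)
    haveI : M.Normal := hM ▸ MonoidHom.normal_ker _
    have hfr : Subgroup.normalizer (R' : Set K) ⊔ M = ⊤ := Sylow.normalizer_sup_eq_top R
    obtain ⟨t, ht, m, hm, rfl⟩ :=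
      Subgroup.mem_sup_of_normal_right.mp (hfr.ge (Subgroup.mem_top s))
    refine ⟨t, ht, ?_⟩
    have h1 : Equiv.Perm.sign (χ m) = 1 := hm
    have h2 : Equiv.Perm.sign (χ (t * m)) = -1 := by rw [hs]; decide
    rwa [map_mul, map_mul, h1, mul_one] at h2
  obtain ⟨n, m, hm, hnm⟩ :=
    Nat.exists_eq_pow_mul_and_not_dvd (orderOf_pos t₀).ne' 2 (by norm_num)
  set t := t₀ ^ m with ht
  have htN : t ∈ Subgroup.normalizer (R' : Set K) := pow_mem ht₀N m
  have ht2 : t ^ 2 ^ n = 1 := by rw [ht, ← pow_mul, mul_comm, ← hnm, pow_orderOf_eq_one]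
  have htσ : Equiv.Perm.sign (χ t) = -1 := by
    rw [ht, map_pow, map_pow, ht₀, Odd.neg_one_pow (Nat.odd_iff.mpr (by omega))]
  set c := χ r₁ with hc
  have hcs : Equiv.Perm.sign c = 1 := by
    obtain ⟨⟨_, hr⟩, -, rfl⟩ := hr₁
    exact hr
  let Ω : Type _ := {r : K // r ∈ R' ∧ χ r = c}
  have hmap : ∀ r : Ω, t * r.1⁻¹ * t⁻¹ ∈ R' ∧ χ (t * r.1⁻¹ * t⁻¹) = c := fun r =>
    ⟨(Subgroup.mem_normalizer_iff.mp htN _).mp (inv_mem r.2.1), by
      rw [map_mul, map_mul, map_inv, map_inv, r.2.2]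
      exact sign_conj_three _ _ htσ hcs⟩
  let f : Equiv.Perm Ω := Equiv.ofBijective (fun r => ⟨_, hmap r⟩)
    (Finite.injective_iff_bijective.mp fun a b h => Subtype.ext (by
      have := congrArg Subtype.val h
      simpa using this))
  have hf2 : ∀ (k : ℕ) (r : Ω), (((f ^ 2) ^ k) r).1 = (t ^ 2) ^ k * r.1 * ((t ^ 2) ^ k)⁻¹ := by
    intro k
    induction k with
    | zero => intro r; simp
    | succ k ih =>
      intro r
      rw [pow_succ', Equiv.Perm.mul_apply, pow_two f, Equiv.Perm.mul_apply]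
      show t * (t * (((f * f) ^ k) r).1⁻¹ * t⁻¹)⁻¹ * t⁻¹ = _
      rw [← pow_two f, ih r, pow_succ' (t ^ 2)]
      generalize (t ^ 2) ^ k = s
      rw [pow_two t]
      group
  have hf : IsPGroup 2 (Subgroup.zpowers f) := by
    have h1 : f ^ 2 ^ (n + 1) = 1 := by
      refine Equiv.ext fun r => Subtype.ext ?_
      rw [pow_succ', pow_mul, hf2, ← pow_mul, mul_comm 2, pow_mul, ht2, one_pow]
      simp
    obtain ⟨i, -, hi⟩ := (Nat.dvd_prime_pow Nat.prime_two).mp (orderOf_dvd_of_pow_eq_one h1)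
    exact IsPGroup.of_card (n := i) (by rw [Nat.card_zpowers, hi])
  haveI : Finite Ω := Subtype.finite
  have hΩ : ¬ 2 ∣ Nat.card Ω := by
    set L := R' ⊓ χ.ker with hL
    have he : Nat.card Ω = Nat.card L := Nat.card_congr
      { toFun := fun r => ⟨r₁⁻¹ * r.1, R'.mul_mem (R'.inv_mem hr₁) r.2.1, by
          show χ (r₁⁻¹ * r.1) = 1
          rw [map_mul, map_inv, r.2.2, inv_mul_cancel]⟩
        invFun := fun l => ⟨r₁ * l.1, mul_mem hr₁ l.2.1, by
          rw [map_mul, show χ l.1 = 1 from l.2.2, mul_one]⟩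
        left_inv := fun r => Subtype.ext (by simp)
        right_inv := fun l => Subtype.ext (by simp) }
    obtain ⟨i, hi⟩ := IsPGroup.iff_card.mp (hR'p.to_le (inf_le_left : L ≤ R'))
    rw [he, hi]
    exact fun h => absurd (Nat.prime_two.dvd_of_dvd_pow h) (by norm_num)
  obtain ⟨r, hr⟩ := hf.nonempty_fixed_point_of_prime_not_dvd_card Ω hΩ
  have hrfix : t * r.1⁻¹ * t⁻¹ = r.1 := congrArg Subtype.val (hr ⟨f, Subgroup.mem_zpowers f⟩)
  obtain ⟨j, hj⟩ := hR'p ⟨r.1, r.2.1⟩
  refine ⟨r.1, t, j, n, by rw [r.2.2]; exact hr₁1, congrArg Subtype.val hj, ht2, ?_⟩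
  conv_lhs => rw [← inv_inv r.1]
  calc t * r.1⁻¹⁻¹ * t⁻¹ = (t * r.1⁻¹ * t⁻¹)⁻¹ := by group
    _ = r.1⁻¹ := by rw [hrfix]

variable {G : Type u} [Group G] [Finite G]

/-- An element of order three on an elementary abelian normal subgroup is not inverted in an
`S₄`-free group; so the automorphisms induced do not involve `S₃`. -/
theorem not_involves_three_quotient (hfree : ¬ Cfsg.Involves (Equiv.Perm (Fin 4)) G)
    {W C : Subgroup G} [W.Normal] [C.Normal] (hC : C = Subgroup.centralizer (W : Set G))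
    (he : ∀ w ∈ W, w * w = 1) : ¬ Cfsg.Involves (Equiv.Perm (Fin 3)) (G ⧸ C) := by
  intro h
  haveI : Fact (Nat.Prime 2) := ⟨Nat.prime_two⟩
  obtain ⟨K, ψ, hψ⟩ := CfsgLib.Offender.exists_hom_of_involves h
  set π := QuotientGroup.mk' C
  let K' : Subgroup G := K.comap π
  let χ : K' →* Equiv.Perm (Fin 3) := ψ.comp (π.subgroupComap K)
  have hχ : Function.Surjective χ :=
    hψ.comp (π.subgroupComap_surjective_of_surjective K (QuotientGroup.mk'_surjective C))
  obtain ⟨r, t, j, n, hr, hr3, ht, htr⟩ := exists_inverted_three χ hχ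
  have hrC : (r : G) ∉ C := fun hc => hr (by
    show ψ _ = 1
    rw [show π.subgroupComap K r = 1 from Subtype.ext ((QuotientGroup.eq_one_iff _).mpr hc),
      map_one])
  have hex : ∃ i, (r : G) ^ 3 ^ i ∈ C := ⟨j, by
    rw [← SubmonoidClass.coe_pow, hr3]; exact one_mem C⟩
  classical
  obtain ⟨i, hi⟩ : ∃ i, Nat.find hex = i + 1 := Nat.exists_eq_succ_of_ne_zero fun h0 => hrC (by
    have := Nat.find_spec hex
    rwa [h0, pow_zero, pow_one] at this)
  set a := (r : G) ^ 3 ^ i with ha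
  have haC : a ∉ C := Nat.find_min hex (by omega)
  have ha3 : a ^ 3 ∈ C := by
    rw [ha, ← pow_mul, ← pow_succ, ← hi]; exact Nat.find_spec hex
  have hta : (t : G) * a * (t : G)⁻¹ = a⁻¹ := by
    have h1 : (t : G) * r * (t : G)⁻¹ = (r : G)⁻¹ := congrArg Subtype.val htr
    rw [ha, ← conj_pow, h1, inv_pow]
  have hWc : ∀ x ∈ W, ∀ y ∈ W, x * y = y * x := fun x hx y hy =>
    (Subgroup.mem_centralizer_iff.mp (CfsgLib.PushUp.comm_of_sq he hy) x hx)
  have hWn : ∀ g : G, ∀ x ∈ W, g * x * g⁻¹ ∈ W := fun g x hx => ‹W.Normal›.conj_mem x hx g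
  have hCf : ∀ c ∈ C, ∀ x ∈ W, c * x * c⁻¹ = x := fun c hc x hx =>
    mem_centralizer_iff_conj.mp (hC ▸ hc) x hx
  -- the vectors killed by `1 + a + a²`
  let U : Subgroup G :=
    { carrier := {x | x ∈ W ∧ x * (a * x * a⁻¹) * (a ^ 2 * x * (a ^ 2)⁻¹) = 1}
      one_mem' := ⟨one_mem W, by simp⟩
      mul_mem' := fun {x y} hx hy => ⟨mul_mem hx.1 hy.1, by
        have e1 : a * (x * y) * a⁻¹ = (a * x * a⁻¹) * (a * y * a⁻¹) := by group
        have e2 : a ^ 2 * (x * y) * (a ^ 2)⁻¹ =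
            (a ^ 2 * x * (a ^ 2)⁻¹) * (a ^ 2 * y * (a ^ 2)⁻¹) := by group
        rw [e1, e2]
        have c1 := hWc y hy.1 (a * x * a⁻¹) (hWn a x hx.1)
        have c2 := hWc (y * (a * y * a⁻¹)) (mul_mem hy.1 (hWn a y hy.1))
          (a ^ 2 * x * (a ^ 2)⁻¹) (hWn _ x hx.1)
        calc x * y * (a * x * a⁻¹ * (a * y * a⁻¹)) *
              (a ^ 2 * x * (a ^ 2)⁻¹ * (a ^ 2 * y * (a ^ 2)⁻¹))
            = x * (y * (a * x * a⁻¹)) * (a * y * a⁻¹) *
              (a ^ 2 * x * (a ^ 2)⁻¹) * (a ^ 2 * y * (a ^ 2)⁻¹) := by group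
          _ = x * (a * x * a⁻¹) * ((y * (a * y * a⁻¹)) *
              (a ^ 2 * x * (a ^ 2)⁻¹)) * (a ^ 2 * y * (a ^ 2)⁻¹) := by rw [c1]; group
          _ = x * (a * x * a⁻¹) * (a ^ 2 * x * (a ^ 2)⁻¹) *
              (y * (a * y * a⁻¹) * (a ^ 2 * y * (a ^ 2)⁻¹)) := by rw [c2]; group
          _ = 1 := by rw [hx.2, hy.2, mul_one]⟩
      inv_mem' := fun {x} hx => by
        rw [show x⁻¹ = x from inv_eq_of_mul_eq_one_right (he x hx.1)]; exact hx }
  have haa : ∀ x ∈ W, a ^ 2 * (a * x * a⁻¹) * (a ^ 2)⁻¹ = x := fun x hx => by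
    calc a ^ 2 * (a * x * a⁻¹) * (a ^ 2)⁻¹ = a ^ 3 * x * (a ^ 3)⁻¹ := by group
      _ = x := hCf _ ha3 x hx
  -- not trivial
  obtain ⟨v, hv, hav⟩ : ∃ v ∈ W, a * v * a⁻¹ ≠ v := by
    by_contra h
    push Not at h
    exact haC (hC ▸ mem_centralizer_iff_conj.mpr h)
  have hxU : v * (a * v * a⁻¹) ∈ U := by
    refine ⟨mul_mem hv (hWn a v hv), ?_⟩
    set v₁ := a * v * a⁻¹ with hv₁
    have h1 : v₁ ∈ W := hWn a v hv
    have e1 : a * (v * v₁) * a⁻¹ = v₁ * (a ^ 2 * v * (a ^ 2)⁻¹) := by rw [hv₁]; group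
    have e2 : a ^ 2 * (v * v₁) * (a ^ 2)⁻¹ = (a ^ 2 * v * (a ^ 2)⁻¹) * v := by
      conv_rhs => arg 2; rw [← haa v hv]
      rw [hv₁]; group
    rw [e1, e2]
    set v₂ := a ^ 2 * v * (a ^ 2)⁻¹ with hv₂
    have h2 : v₂ ∈ W := hWn _ v hv
    calc v * v₁ * (v₁ * v₂) * (v₂ * v) = v * (v₁ * v₁) * (v₂ * v₂) * v := by group
      _ = 1 := by rw [he _ h1, he _ h2, mul_one, mul_one, he v hv]
  have hUne : U ≠ ⊥ := fun hU => hav (by
    have := Subgroup.mem_bot.mp (hU.le hxU)
    exact ((inv_eq_of_mul_eq_one_right this).symm.trans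
      (inv_eq_of_mul_eq_one_right (he v hv))))
  -- an element fixed by `t`
  have htU : ∀ x ∈ U, (t : G) * x * (t : G)⁻¹ ∈ U := fun x hx => by
    refine ⟨hWn _ x hx.1, ?_⟩
    have e1 : a * ((t : G) * x * (t : G)⁻¹) * a⁻¹ =
        (t : G) * (a ^ 2 * x * (a ^ 2)⁻¹) * (t : G)⁻¹ := by
      have h2 : a = (t : G) * a⁻¹ * (t : G)⁻¹ := by
        calc a = ((t : G) * a * (t : G)⁻¹)⁻¹ := by rw [hta, inv_inv]
          _ = _ := by group
      have h3 : a⁻¹ * x * a⁻¹⁻¹ = a ^ 2 * x * (a ^ 2)⁻¹ := by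
        conv_lhs => arg 1; arg 2; rw [← hCf _ ha3 x hx.1]
        group
      conv_lhs => rw [h2]
      rw [← h3]; group
    have e2 : a ^ 2 * ((t : G) * x * (t : G)⁻¹) * (a ^ 2)⁻¹ =
        (t : G) * (a * x * a⁻¹) * (t : G)⁻¹ := by
      have h3 : a⁻¹ * (a⁻¹ * x * a⁻¹⁻¹) * a⁻¹⁻¹ = a * x * a⁻¹ := by
        conv_lhs => arg 1; arg 2; arg 1; arg 2; rw [← hCf _ ha3 x hx.1]
        group
      have h2 : a ^ 2 = (t : G) * (a⁻¹ * a⁻¹) * (t : G)⁻¹ := by
        calc a ^ 2 = ((t : G) * a * (t : G)⁻¹)⁻¹ * ((t : G) * a * (t : G)⁻¹)⁻¹ := by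
              rw [hta, inv_inv, pow_two]
          _ = _ := by group
      conv_lhs => rw [h2]
      rw [← h3]; simp [mul_assoc]
    rw [e1, e2]
    have c := hWc (a * x * a⁻¹) (hWn a x hx.1) (a ^ 2 * x * (a ^ 2)⁻¹) (hWn _ x hx.1)
    calc (t : G) * x * (t : G)⁻¹ * ((t : G) * (a ^ 2 * x * (a ^ 2)⁻¹) * (t : G)⁻¹) *
          ((t : G) * (a * x * a⁻¹) * (t : G)⁻¹)
        = (t : G) * (x * ((a ^ 2 * x * (a ^ 2)⁻¹) * (a * x * a⁻¹))) * (t : G)⁻¹ := by group
      _ = 1 := by rw [← c, ← mul_assoc x, hx.2, mul_one, mul_inv_cancel]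
  let τ : Equiv.Perm U := Equiv.ofBijective (fun x => ⟨_, htU x x.2⟩)
    (Finite.injective_iff_bijective.mp fun x y h => Subtype.ext (by
      have := congrArg Subtype.val h
      simpa using this))
  have hτ : ∀ (k : ℕ) (x : U), ((τ ^ k) x : G) = (t : G) ^ k * x * ((t : G) ^ k)⁻¹ := by
    intro k
    induction k with
    | zero => intro x; simp
    | succ k ih =>
      intro x
      rw [pow_succ', Equiv.Perm.mul_apply]
      show (t : G) * ((τ ^ k) x : G) * (t : G)⁻¹ = _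
      rw [ih x, pow_succ' (t : G)]
      group
  have hτp : IsPGroup 2 (Subgroup.zpowers τ) := by
    have h1 : τ ^ 2 ^ n = 1 := Equiv.ext fun x => Subtype.ext (by
      rw [hτ, ← SubmonoidClass.coe_pow, ht]; simp)
    obtain ⟨i, -, hi⟩ := (Nat.dvd_prime_pow Nat.prime_two).mp (orderOf_dvd_of_pow_eq_one h1)
    exact IsPGroup.of_card (n := i) (by rw [Nat.card_zpowers, hi])
  have h2U : 2 ∣ Nat.card U := by
    obtain ⟨x, hx, hx1⟩ : ∃ x ∈ U, x ≠ 1 := by
      by_contra h
      push Not at h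
      exact hUne ((Subgroup.eq_bot_iff_forall U).mpr h)
    have ho : orderOf x = 2 := orderOf_eq_prime (by rw [pow_two]; exact he x hx.1) hx1
    exact ho ▸ U.orderOf_dvd_natCard hx
  have hone : ∀ k : ℕ, (τ ^ k) 1 = 1 := fun k => Subtype.ext (by rw [hτ]; simp)
  have hfix1 : ∀ g : Subgroup.zpowers τ, g • (1 : U) = 1 := by
    rintro ⟨g, hg⟩
    obtain ⟨k, rfl⟩ := (mem_powers_iff_mem_zpowers (x := τ)).mpr hg
    exact hone k
  obtain ⟨u, hu, hu1⟩ :=
    hτp.exists_fixed_point_of_prime_dvd_card_of_fixed_point U h2U (a := 1) hfix1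
  have htu : (t : G) * u * (t : G)⁻¹ = u := congrArg Subtype.val (hu ⟨τ, Subgroup.mem_zpowers τ⟩)
  -- the four-group
  set x := (u : G) with hxdef
  set y := a * x * a⁻¹ with hy
  have hxW : x ∈ W := u.2.1
  have hyW : y ∈ W := hWn a x hxW
  have hx1 : x ≠ 1 := fun h => hu1 (Subtype.ext h.symm)
  have ha2 : a ^ 2 * x * (a ^ 2)⁻¹ = x * y := by
    have h1 : (x * y) * (a ^ 2 * x * (a ^ 2)⁻¹) = 1 := u.2.2
    have h2 : (x * y)⁻¹ = x * y := inv_eq_of_mul_eq_one_right (he _ (mul_mem hxW hyW))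
    rw [← h2]; exact (inv_eq_of_mul_eq_one_right h1).symm
  have hyx : y ≠ x := fun h => hx1 (by
    have e : a ^ 2 * x * (a ^ 2)⁻¹ = a * y * a⁻¹ := by rw [hy, pow_two]; group
    rw [e, h, ← hy, h, he x hxW] at ha2
    exact ha2)
  have hy1 : y ≠ 1 := fun h => hx1 (conj_eq_one_iff.mp h)
  let F : Subgroup G :=
    { carrier := {z | z = 1 ∨ z = x ∨ z = y ∨ z = x * y}
      one_mem' := Or.inl rfl
      mul_mem' := by
        have hxx := he x hxW
        have hyy := he y hyW
        have hc := hWc x hxW y hyW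
        have hxy := he _ (mul_mem hxW hyW)
        have e1 : x * (x * y) = y := by rw [← mul_assoc, hxx, one_mul]
        have e2 : x * y * y = x := by rw [mul_assoc, hyy, mul_one]
        have e3 : y * (x * y) = x := by rw [hc, ← mul_assoc, hyy, one_mul]
        have e4 : x * y * x = y := by rw [hc, mul_assoc, hxx, mul_one]
        intro p q hp hq
        rcases hp with rfl | rfl | rfl | rfl
        · simpa using hq
        · rcases hq with rfl | rfl | rfl | rfl
          exacts [Or.inr (Or.inl (mul_one _)), Or.inl hxx, Or.inr (Or.inr (Or.inr rfl)),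
            Or.inr (Or.inr (Or.inl e1))]
        · rcases hq with rfl | rfl | rfl | rfl
          exacts [Or.inr (Or.inr (Or.inl (mul_one _))), Or.inr (Or.inr (Or.inr hc.symm)),
            Or.inl hyy, Or.inr (Or.inl e3)]
        · rcases hq with rfl | rfl | rfl | rfl
          exacts [Or.inr (Or.inr (Or.inr (mul_one _))), Or.inr (Or.inr (Or.inl e4)),
            Or.inr (Or.inl e2), Or.inl hxy]
      inv_mem' := by
        intro p hp
        have hpW : p ∈ W := by
          rcases hp with rfl | rfl | rfl | rfl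
          exacts [one_mem W, hxW, hyW, mul_mem hxW hyW]
        rwa [inv_eq_of_mul_eq_one_right (he p hpW)] }
  have hF : Nat.card F = 4 := by
    have hcoe : (F : Set G) = {1, x, y, x * y} := by
      ext z; simp [F, Set.mem_insert_iff]
    rw [← SetLike.coe_sort_coe, Nat.card_coe_set_eq, hcoe]
    have hxy1 : x * y ≠ 1 := fun h => hyx (by
      have := inv_eq_of_mul_eq_one_right h
      rwa [inv_eq_of_mul_eq_one_right (he x hxW), eq_comm] at this)
    rw [Set.ncard_insert_of_notMem (by simp [hx1.symm, hy1.symm, hxy1.symm]),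
      Set.ncard_insert_of_notMem (by simp [hyx.symm, hy1]),
      Set.ncard_pair (by simp [hx1])]
  have hnorm : ∀ g : G, g * x * g⁻¹ ∈ F → g * y * g⁻¹ ∈ F →
      g ∈ Subgroup.normalizer (F : Set G) := by
    intro g h1 h2
    refine Subgroup.mem_normalizer_iff_map_conj_eq.mpr (Subgroup.eq_of_le_of_card_ge ?_
      (Subgroup.card_map_of_injective (MulAut.conj g).injective).ge)
    rintro _ ⟨z, hz, rfl⟩
    show g * z * g⁻¹ ∈ F
    rcases hz with rfl | rfl | rfl | rfl
    · simp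
    · exact h1
    · exact h2
    · rw [show g * (x * y) * g⁻¹ = (g * x * g⁻¹) * (g * y * g⁻¹) by group]
      exact F.mul_mem h1 h2
  have hxF : x ∈ F := Or.inr (Or.inl rfl)
  have hyF : y ∈ F := Or.inr (Or.inr (Or.inl rfl))
  have hxyF : x * y ∈ F := F.mul_mem hxF hyF
  have haF : a ∈ Subgroup.normalizer (F : Set G) := hnorm a hyF (by
    rw [show a * y * a⁻¹ = a ^ 2 * x * (a ^ 2)⁻¹ by rw [hy, pow_two]; group, ha2]; exact hxyF)
  have htF : (t : G) ∈ Subgroup.normalizer (F : Set G) := hnorm t (htu.symm ▸ hxF) (by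
    have e : (t : G) * y * (t : G)⁻¹ =
        ((t : G) * a * (t : G)⁻¹) * ((t : G) * x * (t : G)⁻¹) * ((t : G) * a * (t : G)⁻¹)⁻¹ := by
      rw [hy]; group
    rw [e, hta, htu, inv_inv]
    have : a⁻¹ * x * a = a ^ 2 * x * (a ^ 2)⁻¹ := by
      conv_lhs => arg 1; arg 2; rw [← hCf _ ha3 x hxW]
      group
    rw [this, ha2]; exact hxyF)
  refine hfree (CfsgLib.Offender.involves_perm_four hF htF haF (fun z _ => ?_)
    ⟨x, hxF, hyx⟩ ⟨3, by decide, fun z hz => hCf _ ha3 z ?_⟩)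
  · rw [hta, inv_inv]
  · rcases hz with rfl | rfl | rfl | rfl
    exacts [one_mem W, hxW, hyW, mul_mem hxW hyW]

/-- No offenders on a reduced module of an `S₄`-free group. -/
theorem le_centralizer_of_offender (hfree : ¬ Cfsg.Involves (Equiv.Perm (Fin 4)) G)
    {W C : Subgroup G} [W.Normal] [C.Normal] (hC : C = Subgroup.centralizer (W : Set G))
    (he : ∀ w ∈ W, w * w = 1) (hcore : Cfsg.pCore 2 (G ⧸ C) = ⊥)
    {A : Subgroup G} (hA : ∀ a ∈ A, a * a ∈ C) (hoff : cd W A ≤ cd A W) :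
    A ≤ Subgroup.centralizer (W : Set G) := by
  letI : CommGroup W :=
    { (inferInstance : Group W) with
      mul_comm := fun x y => Subtype.ext (Subgroup.mem_centralizer_iff.mp
        (CfsgLib.PushUp.comm_of_sq he y.2) x x.2) }
  let V := Additive W
  let conjHom : G →* AddMonoid.End V :=
    { toFun := fun g => MonoidHom.toAdditive
        ((MulAut.conjNormal g : W ≃* W).toMonoidHom)
      map_one' := DFunLike.ext _ _ fun (v : V) =>
        congrArg Additive.ofMul (Subtype.ext (show (1 : G) * (Additive.toMul v : W) * 1⁻¹ = (Additive.toMul v : W) by simp))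
      map_mul' := fun g h => DFunLike.ext _ _ fun (v : V) =>
        congrArg Additive.ofMul (Subtype.ext (show g * h * (Additive.toMul v : W) * (g * h)⁻¹ =
          g * (h * (Additive.toMul v : W) * h⁻¹) * g⁻¹ by group)) }
  have hker : ∀ g : G, conjHom g = 1 ↔ g ∈ C := fun g => by
    rw [hC, mem_centralizer_iff_conj]
    constructor
    · intro h w hw
      exact congrArg (fun v : V => ((Additive.toMul v : W) : G))
        (DFunLike.congr_fun h (Additive.ofMul (⟨w, hw⟩ : W)))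
    · intro h
      refine DFunLike.ext _ _ fun v => ?_
      exact congrArg Additive.ofMul (Subtype.ext (h _ (Additive.toMul v).2))
  let φ : G ⧸ C →* AddMonoid.End V :=
    QuotientGroup.lift C conjHom fun g hg => MonoidHom.mem_ker.mpr ((hker g).mpr hg)
  have hinj : Function.Injective φ := by
    refine (injective_iff_map_eq_one φ).mpr fun q hq => ?_
    induction q using QuotientGroup.induction_on with
    | H g => exact (QuotientGroup.eq_one_iff g).mpr ((hker g).mp hq)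
  have hV : ∀ v : V, v + v = 0 := fun v =>
    congrArg Additive.ofMul (Subtype.ext (he _ (Additive.toMul v).2))
  set π := QuotientGroup.mk' C with hπ
  have hbot : A.map π = ⊥ := by
    refine no_offender hV φ hinj (not_involves_three_quotient hfree hC he) hcore
      (A := A.map π) (by
        rintro _ ⟨a, ha, rfl⟩
        rw [← map_mul]
        exact (QuotientGroup.eq_one_iff _).mpr (hA a ha)) ?_
    have h1 : Nat.card (A.map π) = cd A W := by
      rw [← Subgroup.relIndex_ker, hπ, QuotientGroup.ker_mk', hC]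
    have h2 : Nat.card (fixSub φ (A.map π)) =
        Nat.card ↥(Subgroup.centralizer (A : Set G) ⊓ W) := Nat.card_congr
      { toFun := fun v => ⟨((Additive.toMul (v : V) : W) : G),
          Subgroup.mem_centralizer_iff.mpr fun a ha => by
            have h3 : a * ((Additive.toMul (v : V) : W) : G) * a⁻¹ = _ :=
              congrArg (fun w : V => ((Additive.toMul w : W) : G))
                (v.2 (π a) (Subgroup.mem_map_of_mem π ha))
            exact mul_inv_eq_iff_eq_mul.mp h3, (Additive.toMul (v : V)).2⟩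
        invFun := fun w => ⟨Additive.ofMul (⟨w, w.2.2⟩ : W), by
          rintro _ ⟨a, ha, rfl⟩
          refine congrArg Additive.ofMul (Subtype.ext ?_)
          show a * (w : G) * a⁻¹ = w
          rw [Subgroup.mem_centralizer_iff.mp w.2.1 a ha, mul_inv_cancel_right]⟩
        left_inv := fun _ => rfl
        right_inv := fun _ => rfl }
    have h3 : Nat.card V = cd W A * Nat.card ↥(Subgroup.centralizer (A : Set G) ⊓ W) := by
      rw [show Nat.card V = Nat.card W from Nat.card_congr Additive.toMul]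
      exact (CfsgLib.Coprime.relIndex_mul_card_inf _ W).symm
    rw [h1, h2, h3]
    exact Nat.mul_le_mul_right _ hoff
  refine hC ▸ fun a ha => ?_
  have h4 : π a ∈ A.map π := Subgroup.mem_map_of_mem π ha
  rw [hbot, Subgroup.mem_bot] at h4
  exact (QuotientGroup.eq_one_iff a).mp h4

/-- Glauberman's factorization. -/
theorem fac_center (hchar : Subgroup.centralizer (Cfsg.pCore 2 G : Set G) ≤ Cfsg.pCore 2 G)
    (hfree : ¬ Cfsg.Involves (Equiv.Perm (Fin 4)) G) (S : Sylow 2 G) :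
    Fac (Subgroup.centralizer
        (((S : Subgroup G) ⊓ Subgroup.centralizer ((S : Subgroup G) : Set G) : Subgroup G) : Set G))
      (Subgroup.normalizer (je (S : Subgroup G) : Set G)) := by
  obtain ⟨W, C, hWn, hCn, hC, he, hWS, -, hcore, hCZ⟩ := CfsgLib.LocalK.exists_reduced hchar S
  have hAC : ∀ A, MaxEl (S : Subgroup G) A → A ≤ (S : Subgroup G) ⊓ C := fun A hA =>
    le_inf hA.le (hC ▸ le_centralizer_of_offender hfree hC he hcore
      (fun a ha => by rw [hA.sq a ha]; exact one_mem C) (hA.offender hWS he))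
  have h1 : Subgroup.normalizer (((S : Subgroup G) ⊓ C : Subgroup G) : Set G) ≤
      Subgroup.normalizer (je (S : Subgroup G) : Set G) :=
    je_eq_of_le inf_le_left hAC ▸ CfsgLib.LocalK.normalizer_le_normalizer_je _
  exact fun g => by
    obtain ⟨c, hc, n, hn, e⟩ := exists_frattini S C g
    exact ⟨c, hCZ hc, n, h1 hn, e⟩

end CfsgLib.SThreeFree
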