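import Cfsg.Agent.Lib.SThreeFree.Tools
import Cfsg.Agent.Lib.SThreeFree.Algebra
import Cfsg.Agent.Lib.Offender.Involves

/-!
Two conjugate minimal offenders generating the group: the counting which rules this out.
-/

set_option autoImplicit false
set_option linter.style.haveILetI false
set_option linter.unusedSectionVars false

namespace CfsgLib.SThreeFree

open CfsgLib.Offender (fixSub mem_fixSub fixSub_anti fixSub_inf_le)
open CfsgLib.Conjugacy (cj mem_cj conj_mem_cj cj_cj cj_one cj_mono card_cj)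

variable {X : Type*} [Group X] [Finite X] {V : Type*} [AddCommGroup V] [Finite V]
  {φ : X →* AddMonoid.End V}

theorem perm_three_cases : ∀ σ : Equiv.Perm (Fin 3),
    σ = 1 ∨ σ = Equiv.swap 0 1 ∨ σ = Equiv.swap 1 2 ∨ σ = Equiv.swap 0 1 * Equiv.swap 1 2 ∨
      σ = Equiv.swap 1 2 * Equiv.swap 0 1 ∨
      σ = Equiv.swap 0 1 * Equiv.swap 1 2 * Equiv.swap 0 1 := by decide

/-- Two transvections moving each other's centre, modulo a fixed subgroup, involve `S₃`. -/
theorem involves_three {H : Subgroup X} {Z₀ : AddSubgroup V}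
    (hfix : ∀ h ∈ H, ∀ z ∈ Z₀, φ h z = z) {a b : X} (ha : a ∈ H) (hb : b ∈ H) {v c : V}
    (hv : v ∉ Z₀) (hc : c ∉ Z₀) (hvc : v + c ∉ Z₀) (hV : ∀ u : V, u + u = 0)
    (hav : φ a v - (v + c) ∈ Z₀) (hac : φ a c - c ∈ Z₀) (hbv : φ b v - v ∈ Z₀)
    (hbc : φ b c - (v + c) ∈ Z₀) :
    Cfsg.Involves (Equiv.Perm (Fin 3)) X := by
  classical
  let u : Fin 3 → V := ![v, v + c, c]
  have hsub : ∀ x y : V, x - y = x + y := fun x y => by
    rw [sub_eq_iff_eq_add, add_assoc, hV, add_zero]
  have huniq : ∀ i j, u i - u j ∈ Z₀ → i = j := by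
    intro i j h
    fin_cases i <;> fin_cases j <;>
      first
      | rfl
      | (exfalso
         simp [u, hsub] at h
         first
         | exact hvc h
         | exact hv h
         | exact hc h
         | (rw [show v + c + c = v by rw [add_assoc, hV, add_zero]] at h; exact hv h)
         | (rw [show c + (v + c) = v by rw [add_left_comm, hV, add_zero]] at h; exact hv h)
         | (rw [show v + (v + c) = c by rw [← add_assoc, hV, zero_add]] at h; exact hc h)
         | (rw [show v + c + v = c by rw [add_right_comm, hV, zero_add]] at h; exact hc h)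
         | (rw [add_comm] at h; exact hvc h))
  have hcomp : ∀ (h h' : X) (σ σ' : Equiv.Perm (Fin 3)), h ∈ H →
      (∀ i, φ h (u i) - u (σ i) ∈ Z₀) → (∀ i, φ h' (u i) - u (σ' i) ∈ Z₀) →
      ∀ i, φ (h * h') (u i) - u ((σ * σ') i) ∈ Z₀ := by
    intro h h' σ σ' hh hσ hσ' i
    rw [act_mul, Equiv.Perm.mul_apply,
      ← sub_add_sub_cancel (φ h (φ h' (u i))) (φ h (u (σ' i))) (u (σ (σ' i))), ← map_sub,
      hfix h hh _ (hσ' i)]
    exact add_mem (hσ' i) (hσ _)
  let K : Subgroup X :=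
    { carrier := {h | h ∈ H ∧ ∃ σ : Equiv.Perm (Fin 3), ∀ i, φ h (u i) - u (σ i) ∈ Z₀}
      one_mem' := ⟨one_mem H, 1, fun i => by simp [act_one]⟩
      mul_mem' := fun {h h'} hh hh' => ⟨mul_mem hh.1 hh'.1, hh.2.choose * hh'.2.choose,
        hcomp h h' _ _ hh.1 hh.2.choose_spec hh'.2.choose_spec⟩
      inv_mem' := fun {h} hh => by
        obtain ⟨hH, σ, hσ⟩ := hh
        refine ⟨inv_mem hH, σ⁻¹, fun i => ?_⟩
        have h1 := hfix _ (inv_mem hH) _ (hσ (σ⁻¹ i))
        rw [map_sub, act_inv_act, show σ (σ⁻¹ i) = i from σ.apply_symm_apply i] at h1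
        rw [← neg_mem_iff, neg_sub]
        have h2 : u (σ⁻¹ i) - φ h⁻¹ (u i) = φ h (u (σ⁻¹ i)) - u i := h1
        rw [h2]
        simpa using hσ (σ⁻¹ i) }
  have hun : ∀ (h : X) (σ σ' : Equiv.Perm (Fin 3)), (∀ i, φ h (u i) - u (σ i) ∈ Z₀) →
      (∀ i, φ h (u i) - u (σ' i) ∈ Z₀) → σ = σ' := fun h σ σ' h1 h2 =>
    Equiv.ext fun i => huniq _ _ (by
      have := sub_mem (h2 i) (h1 i)
      simpa using this)
  let ψ : K →* Equiv.Perm (Fin 3) :=
    { toFun := fun k => k.2.2.choose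
      map_one' := hun 1 _ 1 (1 : K).2.2.choose_spec fun i => by simp [act_one]
      map_mul' := fun k k' => hun _ _ _ (k * k').2.2.choose_spec
        (hcomp k k' _ _ k.2.1 k.2.2.choose_spec k'.2.2.choose_spec) }
  have hψ : ∀ (h : X) (hh : h ∈ H) (σ : Equiv.Perm (Fin 3))
      (hσ : ∀ i, φ h (u i) - u (σ i) ∈ Z₀), ψ ⟨h, hh, σ, hσ⟩ = σ := fun h hh σ hσ =>
    hun h _ σ (Exists.choose_spec (p := fun σ : Equiv.Perm (Fin 3) =>
      ∀ i, φ h (u i) - u (σ i) ∈ Z₀) ⟨σ, hσ⟩) hσ
  have hA : ∀ i, φ a (u i) - u ((Equiv.swap (0 : Fin 3) 1) i) ∈ Z₀ := by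
    intro i
    fin_cases i
    · simpa [u] using hav
    · simp [u, Equiv.swap_apply_def, map_add]
      rw [show φ a v + φ a c - v = (φ a v - (v + c)) + (φ a c - c) + (c + c) by abel, hV, add_zero]
      exact add_mem hav hac
    · simpa [u, Equiv.swap_apply_def] using hac
  have hB : ∀ i, φ b (u i) - u ((Equiv.swap (1 : Fin 3) 2) i) ∈ Z₀ := by
    intro i
    fin_cases i
    · simpa [u, Equiv.swap_apply_def] using hbv
    · simp [u, Equiv.swap_apply_def, map_add]
      rw [show φ b v + φ b c - c = (φ b v - v) + (φ b c - (v + c)) + (v + v) by abel, hV, add_zero]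
      exact add_mem hbv hbc
    · simpa [u, Equiv.swap_apply_def] using hbc
  refine CfsgLib.Offender.involves_of_hom ψ fun σ => ?_
  have h0 : Equiv.swap 0 1 ∈ ψ.range := ⟨_, hψ a ha _ hA⟩
  have h1 : Equiv.swap 1 2 ∈ ψ.range := ⟨_, hψ b hb _ hB⟩
  have : σ ∈ ψ.range := by
    rcases perm_three_cases σ with rfl | rfl | rfl | rfl | rfl | rfl
    exacts [one_mem _, h0, h1, mul_mem h0 h1, mul_mem h1 h0, mul_mem (mul_mem h0 h1) h0]
  exact this

theorem relIndex_le_card_of {H K : Subgroup X} {α : Type*} [Finite α] (f : K → α)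
    (h : ∀ x y : K, f x = f y → (x : X)⁻¹ * y ∈ H) : H.relIndex K ≤ Nat.card α := by
  rw [Subgroup.relIndex, Subgroup.index]
  refine Nat.card_le_card_of_injective (fun q => f q.out) fun q r e => ?_
  rw [← QuotientGroup.out_eq' q, ← QuotientGroup.out_eq' r, QuotientGroup.eq]
  exact Subgroup.mem_subgroupOf.mpr (h _ _ e)

theorem card_le_relIndex_of {H K : Subgroup X} {α : Type*} (f : α → K)
    (h : ∀ x y : α, (f x : X)⁻¹ * f y ∈ H → x = y) : Nat.card α ≤ H.relIndex K := by
  rw [Subgroup.relIndex, Subgroup.index]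
  refine Nat.card_le_card_of_injective (fun a => (f a : K ⧸ H.subgroupOf K)) fun q r e => ?_
  exact h q r (Subgroup.mem_subgroupOf.mp (QuotientGroup.eq.mp e))

/-- The counting. -/
theorem finale (hV : ∀ v : V, v + v = 0) (hfree : ¬ Cfsg.Involves (Equiv.Perm (Fin 3)) X)
    {N : AddSubgroup V} {H E : Subgroup X} {W : AddSubgroup V} (hH : H ≤ stab φ N) (hEH : E ≤ H)
    (hsq : ∀ a ∈ E, a * a ∈ fixer φ N) (hne : ¬ E ≤ fixer φ N)
    (hoff : Nat.card N ≤ meas φ N E)
    (hquad : ∀ a ∈ E, ∀ b ∈ E, ∀ v ∈ N, φ b (φ a v - v) = φ a v - v)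
    (hWC : W ≤ fixIn φ N E)
    (hspan : ∀ U ≤ N, W ≤ U → H ≤ stab φ U → U = N)
    {x₀ : X} (hx₀ : x₀ ∈ H) (hx₀M : x₀ ∉ stab φ W)
    (hgen : ∀ y ∈ H, y ∉ stab φ W → E ⊔ cj y E = H)
    (hprop : ∀ y ∈ H, y ∉ stab φ W → ∀ L ≤ H, cj y E ≤ L → L ≠ H → L ≤ stab φ (mv φ y W))
    (hR : ∀ D ≤ H, (∀ d ∈ D, ∀ v ∈ N, φ d v - v ∈ fixIn φ N H) →
      Nat.card N ≤ meas φ N D → D ≤ fixer φ N) : False := by
  classical
  set C := fixIn φ N E with hC
  set Z₀ := fixIn φ N H with hZ₀
  have hsub : ∀ x y : V, x - y = x + y := fun x y => by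
    rw [sub_eq_iff_eq_add, add_assoc, hV, add_zero]
  have hmvN : ∀ y ∈ H, mv φ y N = N := fun y hy => mem_stab_iff_mv.mp (hH hy)
  have hCy : ∀ y ∈ H, fixIn φ N (cj y E) = mv φ y C := fun y hy => by
    rw [hC, ← fixIn_cj, hmvN y hy]
  have hZfix : ∀ h ∈ H, ∀ z ∈ Z₀, φ h z = z := fun h hh z hz => hz.2 h hh
  have hZC : Z₀ ≤ C := fixIn_anti hEH
  have hZy : ∀ y ∈ H, Z₀ ≤ mv φ y C := fun y hy => by
    rw [← hCy y hy]
    exact fixIn_anti ((cj_mono y hEH).trans (cj_eq_self_of_mem hy).le)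
  have hint : ∀ y ∈ H, y ∉ stab φ W → C ⊓ mv φ y C = Z₀ := fun y hy hyM => by
    refine le_antisymm (fun v hv => ⟨hv.1.1, ?_⟩) (le_inf hZC (hZy y hy))
    rw [← hgen y hy hyM]
    have h2 : v ∈ fixIn φ N (cj y E) := (hCy y hy).ge hv.2
    exact fixSub_inf_le φ _ _ ⟨hv.1.2, h2.2⟩
  have hact : ∀ h ∈ H, ∀ v ∈ N, φ h v ∈ N := fun h hh v hv => ((hH hh) v).mpr hv
  have hquadC : ∀ a ∈ E, ∀ v ∈ N, φ a v - v ∈ C := fun a ha v hv =>
    ⟨N.sub_mem (hact a (hEH ha) v hv) hv, fun b hb => hquad a ha b hb v hv⟩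
  -- quadratic action of the conjugates
  have hquady : ∀ y ∈ H, ∀ b ∈ cj y E, ∀ v ∈ N, φ b v - v ∈ mv φ y C := by
    rintro y hy _ ⟨a, ha, rfl⟩ v hv
    rw [mem_mv, map_sub]
    show φ y⁻¹ (φ (y * a * y⁻¹) v) - φ y⁻¹ v ∈ C
    rw [act_mul, act_mul, act_inv_act]
    exact hquadC a ha _ (hact _ (inv_mem hy) v hv)
  set C' := mv φ x₀ C with hC'
  set B := cj x₀ E with hB
  have hBH : B ≤ H := (cj_mono x₀ hEH).trans (cj_eq_self_of_mem hx₀).le
  have hC'N : C' ≤ N := (mv_mono inf_le_left).trans (hmvN x₀ hx₀).le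
  -- the sum
  have hsum : C ⊔ C' = N := by
    refine hspan _ (sup_le inf_le_left hC'N) (hWC.trans le_sup_left) ?_
    rw [← hgen x₀ hx₀ hx₀M]
    refine sup_le ?_ ?_ <;> intro a ha <;> refine mem_stab_of_forall fun v hv => ?_
    · have hvN : v ∈ N := (sup_le inf_le_left hC'N : C ⊔ C' ≤ N) hv
      rw [← sub_add_cancel (φ a v) v]
      exact add_mem (AddSubgroup.mem_sup_left (hquadC a ha v hvN)) hv
    · have hvN : v ∈ N := (sup_le inf_le_left hC'N : C ⊔ C' ≤ N) hv
      rw [← sub_add_cancel (φ a v) v]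
      exact add_mem (AddSubgroup.mem_sup_right (hquady x₀ hx₀ a ha v hvN)) hv
  have hcardC' : ∀ y, Nat.card (mv φ y C) = Nat.card C := fun y => card_mv y C
  have hcards : Nat.card N * Nat.card Z₀ = Nat.card C * Nat.card C := by
    have e1 := AddSubgroup.relIndex_mul_relIndex ⊥ C (C ⊔ C') bot_le le_sup_left
    have e2 := AddSubgroup.relIndex_mul_relIndex ⊥ (C ⊓ C') C' bot_le inf_le_right
    simp only [AddSubgroup.relIndex_bot_left, AddSubgroup.relIndex_sup_left,
      AddSubgroup.inf_relIndex_right] at e1 e2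
    rw [hint x₀ hx₀ hx₀M] at e2
    have e3 : Nat.card C' = Nat.card C := hcardC' x₀
    calc Nat.card N * Nat.card Z₀ = Nat.card C * (Nat.card Z₀ * C.relIndex C') := by
          rw [← hsum, ← e1]; ring
      _ = _ := by rw [e2, e3]
  -- vectors fixed modulo `Z₀`
  have hfixmod : ∀ y ∈ H, y ∉ stab φ W → ∀ w ∈ mv φ y C,
      (∀ h ∈ H, φ h w - w ∈ Z₀) → w ∈ Z₀ := by
    intro y hy hyM w hw hall
    rw [← hint y hy hyM]
    refine ⟨⟨(mv_mono inf_le_left).trans (hmvN y hy).le hw, fun e he => ?_⟩, hw⟩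
    have hd : ∀ h ∈ H, ∀ h' ∈ H, φ (h * h') w - w = (φ h' w - w) + (φ h w - w) :=
      fun h hh h' hh' => by
        rw [act_mul, ← hZfix h hh _ (hall h' hh'), map_sub]; abel
    have hfixy : φ (y * e * y⁻¹) w = w := ((hCy y hy).ge hw).2 _ (conj_mem_cj he)
    have h1 := hd (y * e) (mul_mem hy (hEH he)) y⁻¹ (inv_mem hy)
    rw [hfixy, sub_self, hd y hy e (hEH he)] at h1
    have h2 := hd y hy y⁻¹ (inv_mem hy)
    rw [mul_inv_cancel, act_one, sub_self] at h2
    rw [← sub_eq_zero]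
    calc φ e w - w = (φ y⁻¹ w - w) + ((φ e w - w) + (φ y w - w)) -
          ((φ y⁻¹ w - w) + (φ y w - w)) := by abel
      _ = 0 := by rw [← h1, ← h2, sub_self]
  -- a singular element is trivial modulo `Z₀`
  have hsing : ∀ a ∈ E, ∀ y ∈ H, y ∉ stab φ W → ∀ v ∈ mv φ y C, v ∉ Z₀ → φ a v - v ∈ Z₀ →
      ∀ u ∈ N, φ a u - u ∈ Z₀ := by
    intro a ha y₀ hy₀ hy₀M v hv hvZ hav
    let K : AddSubgroup V :=
      { carrier := {u | u ∈ N ∧ φ a u - u ∈ Z₀}
        zero_mem' := ⟨zero_mem N, by simp⟩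
        add_mem' := fun {u u'} h h' => ⟨add_mem h.1 h'.1, by
          rw [map_add, add_sub_add_comm]; exact add_mem h.2 h'.2⟩
        neg_mem' := fun {u} h => ⟨N.neg_mem h.1, by
          rw [map_neg, ← neg_sub']; exact neg_mem h.2⟩ }
    have hCK : C ≤ K := fun u hu => ⟨hu.1, by rw [hu.2 a ha, sub_self]; exact zero_mem _⟩
    have hlt : Nat.card C < Nat.card K := by
      by_contra h
      have e := AddSubgroup.eq_of_le_of_card_ge hCK (not_lt.mp h)
      have hvK : v ∈ K := ⟨(mv_mono inf_le_left).trans (hmvN y₀ hy₀).le hv, hav⟩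
      exact hvZ ((hint y₀ hy₀ hy₀M).le ⟨e.ge hvK, hv⟩)
    have hWall : ∀ h ∈ H, ∀ u ∈ mv φ h W, φ a u - u ∈ Z₀ := by
      intro y hy u hu
      by_cases hyM : y ∈ stab φ W
      · rw [mem_stab_iff_mv.mp hyM] at hu
        rw [(hWC hu).2 a ha, sub_self]
        exact zero_mem _
      · obtain ⟨w, hwK, hwy, hwZ⟩ : ∃ w ∈ K, w ∈ mv φ y C ∧ w ∉ Z₀ := by
          by_contra hcon
          push Not at hcon
          have h1 := CfsgLib.Offender.card_mul_card_le_addSubgroup K (mv φ y C)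
          have h2 : Nat.card ↥(K ⊔ mv φ y C) ≤ Nat.card N := AddSubgroup.card_le_of_le
            (sup_le (fun u hu => hu.1) ((mv_mono inf_le_left).trans (hmvN y hy).le))
          have h3 : Nat.card ↥(K ⊓ mv φ y C) ≤ Nat.card Z₀ :=
            AddSubgroup.card_le_of_le fun w hw => hcon w hw.1 hw.2
          have h4 := h1.trans (Nat.mul_le_mul h2 h3)
          rw [hcards, hcardC' y] at h4
          exact absurd (Nat.le_of_mul_le_mul_right h4 Nat.card_pos) (not_le.mpr hlt)
        let L : Subgroup X :=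
          { carrier := {h | h ∈ H ∧ φ h w - w ∈ Z₀}
            one_mem' := ⟨one_mem H, by rw [act_one, sub_self]; exact zero_mem _⟩
            mul_mem' := fun {h h'} hh hh' => ⟨mul_mem hh.1 hh'.1, by
              rw [act_mul, ← sub_add_sub_cancel (φ h (φ h' w)) (φ h w) w, ← map_sub,
                hZfix h hh.1 _ hh'.2]
              exact add_mem hh'.2 hh.2⟩
            inv_mem' := fun {h} hh => ⟨inv_mem hh.1, by
              have := hZfix _ (inv_mem hh.1) _ hh.2
              rw [map_sub, act_inv_act] at this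
              rw [← neg_mem_iff, neg_sub, this]
              exact hh.2⟩ }
        have hLH : L ≤ H := fun h hh => hh.1
        have hyL : cj y E ≤ L := fun b hb =>
          ⟨(cj_mono y hEH).trans (cj_eq_self_of_mem hy).le hb, by
            rw [((hCy y hy).ge hwy).2 b hb, sub_self]; exact zero_mem _⟩
        have hne' : L ≠ H := fun e => hwZ (hfixmod y hy hyM w hwy fun h hh => (e.ge hh).2)
        have haL : a ∈ L := ⟨hEH ha, hwK.2⟩
        have hast := hprop y hy hyM L hLH hyL hne' haL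
        have huC' : u ∈ mv φ y C := mv_mono hWC hu
        have huN : u ∈ N := (mv_mono inf_le_left).trans (hmvN y hy).le huC'
        rw [← hint y hy hyM]
        exact ⟨hquadC a ha u huN, (mv φ y C).sub_mem (mv_mono hWC ((hast u).mpr hu)) huC'⟩
    intro u hu
    set U := ⨆ h : H, mv φ (h : X) W with hU
    have hUN : U = N := by
      refine hspan U (iSup_le fun h => ((mv_mono (hWC.trans inf_le_left)).trans
        (hmvN _ h.2).le)) ?_ ?_
      · have h1 := le_iSup (fun h : H => mv φ (h : X) W) 1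
        rwa [OneMemClass.coe_one, mv_one] at h1
      · intro g hg
        refine mem_stab_of_forall fun v hv => ?_
        have hle : mv φ g U ≤ U := by
          refine AddSubgroup.map_le_iff_le_comap.mpr (iSup_le fun h w hw => ?_)
          refine le_iSup (fun h : H => mv φ (h : X) W) (⟨g, hg⟩ * h) ?_
          show φ g w ∈ mv φ (g * (h : X)) W
          rw [mv_mul]
          exact act_mem_mv hw
        exact hle (act_mem_mv hv)
    have hUK : U ≤ K := iSup_le fun h w hw =>
      ⟨(mv_mono (hWC.trans inf_le_left)).trans (hmvN _ h.2).le hw, hWall h h.2 w hw⟩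
    exact (hUK (hUN.ge hu)).2
  -- the same for a conjugate
  have hsing' : ∀ b ∈ B, ∀ c ∈ C, c ∉ Z₀ → φ b c - c ∈ Z₀ → ∀ u ∈ N, φ b u - u ∈ Z₀ := by
    rintro _ ⟨a, ha, rfl⟩ c hc hcZ hbc u hu
    have hconj : ∀ w : V, φ (x₀ * a * x₀⁻¹) w - w ∈ Z₀ ↔
        φ a (φ x₀⁻¹ w) - φ x₀⁻¹ w ∈ Z₀ := fun w => by
      have e : φ (x₀ * a * x₀⁻¹) w - w = φ x₀ (φ a (φ x₀⁻¹ w) - φ x₀⁻¹ w) := by
        rw [map_sub, act_act_inv, ← act_mul, ← act_mul, mul_assoc]
      rw [e]
      constructor
      · intro h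
        have h2 := hZfix _ (inv_mem hx₀) _ h
        rw [act_inv_act] at h2
        rw [h2]; exact h
      · intro h; rw [hZfix _ hx₀ _ h]; exact h
    refine (hconj u).mpr (hsing a ha x₀⁻¹ (inv_mem hx₀)
      (fun h => hx₀M (inv_inv x₀ ▸ (stab φ W).inv_mem h)) (φ x₀⁻¹ c) (act_mem_mv hc) ?_
      ((hconj c).mp hbc) _ (hact _ (inv_mem hx₀) u hu))
    intro h
    have h2 := hZfix _ hx₀ _ h
    rw [act_act_inv] at h2
    exact hcZ (h2 ▸ h)
  -- an element of `B` which is nontrivial modulo `Z₀`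
  obtain ⟨v₀, hv₀, hv₀Z⟩ : ∃ v ∈ C', v ∉ Z₀ := by
    by_contra h
    push Not at h
    have h1 : Nat.card C = Nat.card Z₀ := le_antisymm
      ((hcardC' x₀).ge.trans (AddSubgroup.card_le_of_le h)) (AddSubgroup.card_le_of_le hZC)
    have h2 : Nat.card N ≤ Nat.card C := by
      rw [h1] at hcards ⊢
      exact (Nat.eq_of_mul_eq_mul_right Nat.card_pos hcards).le
    exact hne fun a ha w hw =>
      ((AddSubgroup.eq_of_le_of_card_ge (inf_le_left : C ≤ N) h2).ge hw).2 a ha
  -- the elements trivial modulo `Z₀`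
  let R₀ : Subgroup X :=
    { carrier := {g | g ∈ H ∧ ∀ u ∈ N, φ g u - u ∈ Z₀}
      one_mem' := ⟨one_mem H, fun u _ => by rw [act_one, sub_self]; exact zero_mem _⟩
      mul_mem' := fun {g g'} hg hg' => ⟨mul_mem hg.1 hg'.1, fun u hu => by
        rw [act_mul, ← sub_add_sub_cancel (φ g (φ g' u)) (φ g u) u, ← map_sub,
          hZfix g hg.1 _ (hg'.2 u hu)]
        exact add_mem (hg'.2 u hu) (hg.2 u hu)⟩
      inv_mem' := fun {g} hg => ⟨inv_mem hg.1, fun u hu => by
        have h1 := hg.2 (φ g⁻¹ u) (hact _ (inv_mem hg.1) u hu)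
        rw [act_act_inv] at h1
        rw [← neg_mem_iff, neg_sub]
        exact h1⟩ }
  obtain ⟨b, hb, hbnt⟩ : ∃ b ∈ B, b ∉ R₀ := by
    by_contra h
    push Not at h
    refine hv₀Z (hfixmod x₀ hx₀ hx₀M v₀ hv₀ fun g hg => ?_)
    have hER : E ≤ R₀ := by
      intro e he
      refine ⟨hEH he, fun u hu => ?_⟩
      have h' := (h (x₀ * e * x₀⁻¹) (conj_mem_cj he)).2 (φ x₀ u) (hact _ hx₀ u hu)
      rw [act_mul, act_mul, act_inv_act, ← map_sub] at h'
      have h2 := hZfix _ (inv_mem hx₀) _ h'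
      rw [act_inv_act] at h2
      rw [h2]; exact h'
    have hle : H ≤ R₀ := (hgen x₀ hx₀ hx₀M).ge.trans (sup_le hER h)
    exact (hle hg).2 v₀ (hC'N hv₀)
  have hbH : b ∈ H := hBH hb
  have hbfree : ∀ c ∈ C, φ b c - c ∈ Z₀ → c ∈ Z₀ := fun c hc h => by
    by_contra hcZ
    exact hbnt ⟨hbH, hsing' b hb c hc hcZ h⟩
  have hEN : ∀ a ∈ E, ∀ v ∈ N, φ a v - v ∈ N := fun a ha v hv => (hquadC a ha v hv).1
  -- the quotient `P`
  set Q₀ := Z₀.addSubgroupOf C' with hQ₀
  let P := C' ⧸ Q₀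
  have hP2 : ∀ x : P, 2 • x = 0 := fun x => by
    induction x using QuotientAddGroup.induction_on with
    | H v =>
      rw [← QuotientAddGroup.mk_nsmul, show (2 • v : C') = 0 from Subtype.ext (by
        rw [AddSubgroup.coe_nsmul, two_nsmul]; exact hV _), QuotientAddGroup.mk_zero]
  have hZ2 : ∀ x : Z₀, 2 • x = 0 := fun x => Subtype.ext (by
    rw [AddSubgroup.coe_nsmul, two_nsmul]; exact hV _)
  letI : Module (ZMod 2) P := AddCommGroup.zmodModule hP2
  letI : Module (ZMod 2) Z₀ := AddCommGroup.zmodModule hZ2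
  haveI : Finite P := Quotient.finite _
  have hmk : ∀ v : C', (v : P) = 0 ↔ (v : V) ∈ Z₀ := fun v =>
    (QuotientAddGroup.eq_zero_iff v).trans AddSubgroup.mem_addSubgroupOf
  haveI : Nontrivial P := ⟨⟨(⟨v₀, hv₀⟩ : C'), 0, fun h => hv₀Z ((hmk _).mp h)⟩⟩
  -- the maps `T a`
  let τ : E → C' →+ C' := fun a =>
    { toFun := fun v => ⟨φ b (φ (a : X) v - v) - (φ (a : X) v - v),
        hquady x₀ hx₀ b hb _ (hEN a a.2 v (hC'N v.2))⟩
      map_zero' := Subtype.ext (by simp)
      map_add' := fun u v => Subtype.ext (by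
        simp only [AddSubgroup.coe_add, map_add, map_sub]; abel) }
  let tq : E → Module.End (ZMod 2) P := fun a =>
    (QuotientAddGroup.map Q₀ Q₀ (τ a) (fun v hv => by
      rw [AddSubgroup.mem_comap, AddSubgroup.mem_addSubgroupOf]
      have h1 : φ (a : X) (v : V) = v := hZfix _ (hEH a.2) _ (AddSubgroup.mem_addSubgroupOf.mp hv)
      show φ b (φ (a : X) v - v) - (φ (a : X) v - v) ∈ Z₀
      rw [h1, sub_self, map_zero, sub_self]
      exact zero_mem _)).toZModLinearMap 2
  have htq : ∀ (a : E) (v : C'), tq a (v : P) = ((τ a v : C') : P) := fun _ _ => rfl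
  have hmul : ∀ a a' : E, tq (a * a') = tq a + tq a' := fun a a' => by
    refine LinearMap.ext fun x => ?_
    induction x using QuotientAddGroup.induction_on with
    | H v =>
      rw [LinearMap.add_apply, htq, htq, htq, ← QuotientAddGroup.mk_add]
      refine congrArg QuotientAddGroup.mk (Subtype.ext ?_)
      have e : φ ((a * a' : E) : X) (v : V) - v =
          (φ (a : X) v - v) + (φ (a' : X) v - v) := by
        rw [Subgroup.coe_mul, act_mul, ← sub_add_sub_cancel (φ (a : X) (φ (a' : X) v)) (φ (a : X) v) v,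
          ← map_sub, (hquadC a' a'.2 v (hC'N v.2)).2 a a.2]
        abel
      show φ b (φ ((a * a' : E) : X) v - v) - (φ ((a * a' : E) : X) v - v) = _
      rw [e, map_add]
      show _ = (φ b (φ (a : X) v - v) - (φ (a : X) v - v)) + (φ b (φ (a' : X) v - v) - (φ (a' : X) v - v))
      abel
  have htq1 : tq 1 = 0 := by
    have := hmul 1 1
    rwa [mul_one, left_eq_add] at this
  have hEnd2 : ∀ l : Module.End (ZMod 2) P, l + l = 0 := fun l => LinearMap.ext fun x => by
    rw [LinearMap.add_apply, ← two_nsmul]; exact hP2 _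
  have hsing0 : ∀ (a : E) (v : C'), (v : V) ∉ Z₀ → φ (a : X) v - v ∈ Z₀ → tq a = 0 := by
    intro a v hv h
    refine LinearMap.ext fun x => ?_
    induction x using QuotientAddGroup.induction_on with
    | H w =>
      rw [htq, LinearMap.zero_apply, hmk]
      have h1 := hsing a a.2 x₀ hx₀ hx₀M v v.2 hv h w (hC'N w.2)
      show φ b (φ (a : X) w - w) - (φ (a : X) w - w) ∈ Z₀
      rw [hZfix b hbH _ h1, sub_self]
      exact zero_mem _
  have hinj : ∀ (a : E) (v : C'), (v : V) ∉ Z₀ → tq a (v : P) = 0 → tq a = 0 := by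
    intro a v hv h
    rw [htq, hmk] at h
    exact hsing0 a v hv (hbfree _ (hquadC a a.2 v (hC'N v.2)) h)
  have hone : ∀ (a : E) (v : C'), tq a (v : P) = (v : P) → (v : V) ∈ Z₀ := by
    intro a v h
    by_contra hv
    set c := φ (a : X) v - v with hc
    have hcC : c ∈ C := hquadC a a.2 v (hC'N v.2)
    have hcZ : c ∉ Z₀ := fun hcZ => by
      have h2 := LinearMap.congr_fun (hsing0 a v hv hcZ) (v : P)
      rw [h, LinearMap.zero_apply, hmk] at h2
      exact hv h2
    have hh : φ b c - c - v ∈ Z₀ := by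
      rw [htq, QuotientAddGroup.eq] at h
      have h2 := AddSubgroup.mem_addSubgroupOf.mp h
      rw [← neg_mem_iff]
      have e : -(φ b c - c - v) = -(φ b c - c) + v := by abel
      rw [e]
      exact h2
    have hvc : (v : V) + c ∉ Z₀ := fun hvc => by
      refine hcZ ((hint x₀ hx₀ hx₀M).le ⟨hcC, ?_⟩)
      have e : c = ((v : V) + c) - v := by abel
      rw [e]
      exact C'.sub_mem (hZy x₀ hx₀ hvc) v.2
    refine hfree (involves_three (H := H) hZfix (hEH a.2) hbH hv hcZ hvc hV ?_ ?_ ?_ ?_)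
    · rw [hc, show φ (a : X) v - ((v : V) + (φ (a : X) v - v)) = 0 by abel]; exact zero_mem _
    · rw [hcC.2 a a.2, sub_self]; exact zero_mem _
    · rw [((hCy x₀ hx₀).ge v.2).2 b hb, sub_self]; exact zero_mem _
    · rw [show φ b c - ((v : V) + c) = φ b c - c - v by abel]; exact hh
  -- the space `L`
  let L : Submodule (ZMod 2) (Module.End (ZMod 2) P) :=
    { carrier := {l | ∃ a : E, l = tq a ∨ l = 1 + tq a}
      zero_mem' := ⟨1, Or.inl htq1.symm⟩
      add_mem' := by
        rintro _ _ ⟨a, rfl | rfl⟩ ⟨a', rfl | rfl⟩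
        · exact ⟨a * a', Or.inl (hmul a a').symm⟩
        · exact ⟨a * a', Or.inr (by rw [hmul]; abel)⟩
        · exact ⟨a * a', Or.inr (by rw [hmul]; abel)⟩
        · refine ⟨a * a', Or.inl ?_⟩
          rw [hmul, add_add_add_comm, hEnd2, zero_add]
      smul_mem' := by
        intro c l hl
        rcases zmod_two_cases c with rfl | rfl
        · exact ⟨1, Or.inl ((zero_smul (ZMod 2) l).trans htq1.symm)⟩
        · rwa [one_smul] }
  have hLinj : ∀ l ∈ L, l ≠ 0 → Function.Injective l := by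
    rintro l ⟨a, hl⟩ hne0
    rw [← LinearMap.ker_eq_bot, Submodule.eq_bot_iff]
    intro x hx
    induction x using QuotientAddGroup.induction_on with
    | H v =>
      rw [LinearMap.mem_ker] at hx
      rw [hmk]
      rcases hl with rfl | rfl
      · by_contra hv
        exact hne0 (hinj a v hv hx)
      · refine hone a v ?_
        rw [LinearMap.add_apply, Module.End.one_apply, add_eq_zero_iff_eq_neg'] at hx
        rw [hx, neg_eq_iff_add_eq_zero, ← two_nsmul]; exact hP2 _
  -- the space `A`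
  let R₁ := R₀ ⊓ fixer φ C
  let A : Submodule (ZMod 2) (P →ₗ[ZMod 2] Z₀) :=
    { carrier := {f | ∃ h ∈ R₁, ∀ v : C', (f (v : P) : V) = φ h v - v}
      zero_mem' := ⟨1, one_mem _, fun v => by
        rw [act_one, sub_self, LinearMap.zero_apply]; rfl⟩
      add_mem' := by
        rintro f f' ⟨h, hh, hf⟩ ⟨h', hh', hf'⟩
        refine ⟨h * h', mul_mem hh hh', fun v => ?_⟩
        rw [LinearMap.add_apply, AddSubgroup.coe_add, hf, hf', act_mul,
          ← sub_add_sub_cancel (φ h (φ h' v)) (φ h v) (v : V), ← map_sub,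
          hZfix h hh.1.1 _ (hh'.1.2 v (hC'N v.2))]
        abel
      smul_mem' := by
        intro c f hf
        rcases zmod_two_cases c with rfl | rfl
        · refine ⟨1, one_mem _, fun v => ?_⟩
          rw [zero_smul, LinearMap.zero_apply, act_one, sub_self]; rfl
        · rwa [one_smul] }
  -- commutators
  have hcomp : ∀ f ∈ A, ∀ l ∈ L, f ∘ₗ l ∈ A := by
    have key : ∀ f ∈ A, ∀ a : E, f ∘ₗ tq a ∈ A := by
      rintro f ⟨r, hr, hf⟩ a
      have hrH : r ∈ H := hr.1.1
      have hbsq : ∀ u ∈ N, φ b⁻¹ u = φ b u := by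
        obtain ⟨e, he, rfl⟩ := hb
        intro u hu
        show φ (x₀ * e * x₀⁻¹)⁻¹ u = φ (x₀ * e * x₀⁻¹) u
        have h1 : ∀ w ∈ N, φ e⁻¹ w = φ e w := fun w hw => by
          have h2 : φ (e * e) w = w := hsq e he w hw
          conv_lhs => rw [← h2]
          rw [← act_mul, inv_mul_cancel_left]
        rw [show (x₀ * e * x₀⁻¹)⁻¹ = x₀ * e⁻¹ * x₀⁻¹ by group]
        rw [act_mul φ (x₀ * e⁻¹), act_mul φ x₀, act_mul φ (x₀ * e), act_mul φ x₀,
          h1 _ (hact _ (inv_mem hx₀) u hu)]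
      let D : ∀ _ : X, V → V := fun g u => φ g u - u
      set k := r * b * r⁻¹ * b⁻¹ with hk
      have hkD : ∀ u ∈ N, φ k u - u = φ r (φ b u - u) - (φ b u - u) := by
        intro u hu
        set w := φ b u with hw
        have hwN : w ∈ N := hact _ hbH u hu
        have hz : φ r w - w ∈ Z₀ := hr.1.2 w hwN
        have h1 : φ r⁻¹ w = w - (φ r w - w) := by
          have h2 : φ r (w - (φ r w - w)) = w := by
            rw [map_sub, hZfix r hrH _ hz]; abel
          conv_lhs => rw [← h2]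
          exact act_inv_act φ r _
        have h3 : φ k u = φ r (φ b (φ r⁻¹ w)) := by
          rw [hk, act_mul, hbsq u hu, act_mul, act_mul]
        have h4 : φ b w = u := by rw [hw, ← hbsq u hu, act_act_inv]
        rw [h3, h1, map_sub (φ b), h4, hZfix b hbH _ hz, map_sub (φ r), hZfix r hrH _ hz, hw,
          map_sub (φ r)]
        have h5 : φ r u - φ r (φ b u) + φ b u = (φ r u - φ r (φ b u) + φ b u) := rfl
        rw [hsub (φ r (φ b u)) (φ r u), hsub (φ b u) u, hsub _ u, hsub _ (φ b u + u)]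
        rw [hsub (φ r u), hsub (φ r (φ b u))]
        abel
      set k' := k * (a : X) * k⁻¹ * (a : X)⁻¹ with hk'
      have haH : (a : X) ∈ H := hEH a.2
      have hkH : k ∈ H := mul_mem (mul_mem (mul_mem hrH hbH) (inv_mem hrH)) (inv_mem hbH)
      have hkR : k ∈ R₀ := ⟨hkH, fun u hu => by
        rw [hkD u hu]
        exact hr.1.2 _ (N.sub_mem (hact _ hbH u hu) hu)⟩
      have hasq : ∀ u ∈ N, φ (a : X)⁻¹ u = φ (a : X) u := fun u hu => by
        have h2 : φ ((a : X) * a) u = u := hsq a a.2 u hu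
        conv_lhs => rw [← h2]
        rw [← act_mul, inv_mul_cancel_left]
      have hk'D : ∀ u ∈ N, φ k' u - u = φ k (φ (a : X) u - u) - (φ (a : X) u - u) := by
        intro u hu
        set w := φ (a : X) u with hw
        have hwN : w ∈ N := hact _ haH u hu
        have hz : φ k w - w ∈ Z₀ := hkR.2 w hwN
        have h1 : φ k⁻¹ w = w - (φ k w - w) := by
          have h2 : φ k (w - (φ k w - w)) = w := by
            rw [map_sub, hZfix k hkH _ hz]; abel
          conv_lhs => rw [← h2]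
          exact act_inv_act φ k _
        have h3 : φ k' u = φ k (φ (a : X) (φ k⁻¹ w)) := by
          rw [hk', act_mul, hasq u hu, act_mul, act_mul]
        have h4 : φ (a : X) w = u := by rw [hw, ← hasq u hu, act_act_inv]
        rw [h3, h1, map_sub (φ (a : X)), h4, hZfix _ haH _ hz, map_sub (φ k), hZfix k hkH _ hz, hw,
          map_sub (φ k)]
        rw [hsub (φ k (φ (a : X) u)) (φ k u), hsub (φ (a : X) u) u, hsub _ u,
          hsub _ (φ (a : X) u + u)]
        rw [hsub (φ k u), hsub (φ k (φ (a : X) u))]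
        abel
      have hk'H : k' ∈ H := mul_mem (mul_mem (mul_mem hkH haH) (inv_mem hkH)) (inv_mem haH)
      refine ⟨k', ⟨⟨hk'H, fun u hu => ?_⟩, fun c hc => ?_⟩, fun v => ?_⟩
      · rw [hk'D u hu]; exact hkR.2 _ (hEN a a.2 u hu)
      · rw [← sub_eq_zero, hk'D c hc.1, hc.2 a a.2, sub_self, map_zero, sub_self]
      · rw [LinearMap.comp_apply, htq, hf]
        show φ r (φ b (φ (a : X) v - v) - (φ (a : X) v - v)) -
          (φ b (φ (a : X) v - v) - (φ (a : X) v - v)) = φ k' v - v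
        rw [hk'D v (hC'N v.2), hkD _ (hEN a a.2 v (hC'N v.2))]
    rintro f hf l ⟨a, rfl | rfl⟩
    · exact key f hf a
    · rw [LinearMap.comp_add, Module.End.one_eq_id, LinearMap.comp_id]
      exact A.add_mem hf (key f hf a)
  -- no offenders in `A`
  have hcardP : Nat.card C' = Nat.card P * Nat.card Z₀ := by
    rw [AddSubgroup.card_eq_card_quotient_mul_card_addSubgroup Q₀,
      Nat.card_congr (AddSubgroup.addSubgroupOfEquivOfLe (hZy x₀ hx₀)).toEquiv]
  have hN' : Nat.card N = Nat.card C * Nat.card P := by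
    refine Nat.eq_of_mul_eq_mul_right (Nat.card_pos (α := Z₀)) ?_
    rw [hcards, mul_assoc, ← hcardP, hcardC' x₀]
  have hD : ∀ D ≤ A, D ≠ ⊥ → ∀ K : Submodule (ZMod 2) P, (∀ f ∈ D, ∀ v ∈ K, f v = 0) →
      Nat.card D * Nat.card K < Nat.card P := by
    intro D hDA hD0 K hK
    by_contra hlt
    push Not at hlt
    let RD : Subgroup X :=
      { carrier := {h | h ∈ R₁ ∧ ∃ f ∈ D, ∀ v : C', (f (v : P) : V) = φ h v - v}
        one_mem' := ⟨one_mem _, 0, D.zero_mem, fun v => by
          rw [act_one, sub_self, LinearMap.zero_apply]; rfl⟩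
        mul_mem' := by
          rintro h h' ⟨hh, f, hf, e⟩ ⟨hh', f', hf', e'⟩
          refine ⟨mul_mem hh hh', f + f', D.add_mem hf hf', fun v => ?_⟩
          rw [LinearMap.add_apply, AddSubgroup.coe_add, e, e', act_mul,
            ← sub_add_sub_cancel (φ h (φ h' v)) (φ h v) (v : V), ← map_sub,
            hZfix h hh.1.1 _ (hh'.1.2 v (hC'N v.2))]
          abel
        inv_mem' := by
          rintro h ⟨hh, f, hf, e⟩
          refine ⟨inv_mem hh, f, hf, fun v => ?_⟩
          have h1 := hZfix _ (inv_mem hh.1.1) _ (f (v : P)).2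
          rw [e, map_sub, act_inv_act] at h1
          rw [e, ← h1, hsub, hsub (φ h⁻¹ v), add_comm] }
    set K' := ((K.toAddSubgroup.comap (QuotientAddGroup.mk' Q₀)).map C'.subtype) with hK'
    have hK'card : Nat.card K' = Nat.card K * Nat.card Z₀ := by
      rw [hK', AddSubgroup.card_map_of_injective C'.subtype_injective]
      have e1 := (K.toAddSubgroup.comap (QuotientAddGroup.mk' Q₀)).card_mul_index
      rw [AddSubgroup.index_comap_of_surjective _ (QuotientAddGroup.mk'_surjective Q₀), hcardP,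
        ← K.toAddSubgroup.card_mul_index] at e1
      refine Nat.eq_of_mul_eq_mul_right (Nat.pos_of_ne_zero K.toAddSubgroup.index_ne_zero_of_finite) ?_
      rw [e1]
      show Nat.card K * _ * _ = Nat.card K * _ * _
      ring
    have hfixD : C ⊔ K' ≤ fixIn φ N RD := by
      refine sup_le (fun c hc => ⟨hc.1, fun h hh => hh.1.2 c hc⟩) ?_
      rintro _ ⟨v, hv, rfl⟩
      refine ⟨hC'N v.2, fun h hh => ?_⟩
      obtain ⟨-, f, hf, e⟩ := hh
      have h1 := e v
      rw [hK f hf (v : P) hv, ZeroMemClass.coe_zero] at h1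
      exact (sub_eq_zero.mp h1.symm :)
    have himg : Nat.card D ≤ img φ N RD := by
      have hrep : ∀ f : D, ∃ h : RD, ∀ v : C',
          ((f : P →ₗ[ZMod 2] Z₀) (v : P) : V) = φ (h : X) v - v := fun f => by
        obtain ⟨h, hh, e⟩ := hDA f.2
        exact ⟨⟨h, hh, f, f.2, e⟩, e⟩
      choose rep hrep using hrep
      refine card_le_relIndex_of rep fun f f' hff => Subtype.ext (LinearMap.ext fun x => ?_)
      induction x using QuotientAddGroup.induction_on with
      | H v =>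
        refine Subtype.ext ?_
        rw [hrep, hrep]
        have h1 := hff v (hC'N v.2)
        rw [act_mul] at h1
        rw [← act_act_inv φ (rep f : X) (φ (rep f' : X) v), h1]
    have hoffD : Nat.card N ≤ meas φ N RD := by
      refine Nat.le_of_mul_le_mul_right ?_ (Nat.card_pos (α := Z₀))
      have h1 := CfsgLib.Offender.card_mul_card_le_addSubgroup C K'
      have h2 : Nat.card ↥(C ⊓ K') ≤ Nat.card Z₀ := AddSubgroup.card_le_of_le (by
        refine le_trans (inf_le_inf_left C ?_) (hint x₀ hx₀ hx₀M).le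
        exact AddSubgroup.map_subtype_le _)
      have h3 : Nat.card C * Nat.card K ≤ Nat.card (fixIn φ N RD) := by
        refine le_trans ?_ (AddSubgroup.card_le_of_le hfixD)
        refine Nat.le_of_mul_le_mul_right ?_ (Nat.card_pos (α := Z₀))
        rw [mul_assoc, ← hK'card]
        exact h1.trans (Nat.mul_le_mul_left _ h2)
      refine Nat.mul_le_mul_right _ ?_
      calc Nat.card N = Nat.card C * Nat.card P := hN'
        _ ≤ Nat.card C * (Nat.card D * Nat.card K) := Nat.mul_le_mul_left _ hlt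
        _ = Nat.card D * (Nat.card C * Nat.card K) := by ring
        _ ≤ _ := Nat.mul_le_mul himg h3
    have htriv := hR RD (fun d hd => hd.1.1.1) (fun d hd => hd.1.1.2) hoffD
    refine hD0 ((Submodule.eq_bot_iff D).mpr fun f hf => LinearMap.ext fun x => ?_)
    induction x using QuotientAddGroup.induction_on with
    | H v =>
      obtain ⟨h, hh, e⟩ := hDA hf
      refine Subtype.ext ?_
      rw [e, htriv (show h ∈ RD from ⟨hh, f, hf, e⟩) v (hC'N v.2), sub_self]
      rfl
  have hmain := card_mul_card_le A L hLinj hcomp hD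
  -- counting
  let TE := Set.range tq
  have hE1 : img φ N E ≤ Nat.card A * Nat.card TE := by
    have hK : fixer φ N ⊓ E ≤ R₁ ⊓ E := by
      refine le_inf (fun e he => ⟨⟨hEH he.2, fun u hu => ?_⟩, fun c hc => hc.2 e he.2⟩) inf_le_right
      rw [he.1 u hu, sub_self]
      exact zero_mem _
    have e : img φ N E = (fixer φ N ⊓ E).relIndex (R₁ ⊓ E) * (R₁ ⊓ E).relIndex E := by
      rw [Subgroup.relIndex_mul_relIndex _ _ _ hK inf_le_right, Subgroup.inf_relIndex_right]
      rfl
    rw [e]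
    refine Nat.mul_le_mul ?_ ?_
    · have hrep : ∀ r : ↥(R₁ ⊓ E), ∃ f : A, ∀ v : C',
          ((f : P →ₗ[ZMod 2] Z₀) (v : P) : V) = φ (r : X) v - v := by
        intro r
        let g : C' →+ Z₀ :=
          { toFun := fun v => ⟨φ (r : X) v - v, r.2.1.1.2 v (hC'N v.2)⟩
            map_zero' := Subtype.ext (by simp)
            map_add' := fun u v => Subtype.ext (by
              simp only [AddSubgroup.coe_add, map_add]; abel) }
        let g' := (QuotientAddGroup.lift Q₀ g (fun v hv => Subtype.ext (by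
          show φ (r : X) v - v = 0
          rw [hZfix _ r.2.1.1.1 _ (AddSubgroup.mem_addSubgroupOf.mp hv), sub_self]))).toZModLinearMap 2
        exact ⟨⟨g', r, r.2.1, fun v => rfl⟩, fun v => rfl⟩
      choose f hf using hrep
      haveI : Finite (P →ₗ[ZMod 2] Z₀) := Finite.of_injective _ DFunLike.coe_injective
      refine relIndex_le_card_of f fun r r' hrr => ⟨fun u hu => ?_, E.mul_mem (E.inv_mem r.2.2) r'.2.2⟩
      have hagree : φ (r' : X) u = φ (r : X) u := by
        obtain ⟨c, hc, v, hv, rfl⟩ := AddSubgroup.mem_sup.mp (hsum.ge hu)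
        have h1 := hf r' ⟨v, hv⟩
        rw [← hrr, hf r ⟨v, hv⟩] at h1
        rw [map_add, map_add, r.2.1.2 c hc, r'.2.1.2 c hc]
        exact congrArg (c + ·) (sub_left_injective h1).symm
      rw [act_mul, hagree, act_inv_act]
    · refine relIndex_le_card_of (fun a : E => (⟨tq a, a, rfl⟩ : TE)) fun a a' haa => ?_
      have h0 : tq (a⁻¹ * a') = 0 := by
        have h1 := hmul a (a⁻¹ * a')
        rw [mul_inv_cancel_left, show tq a = tq a' from congrArg Subtype.val haa] at h1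
        exact left_eq_add.mp h1
      set e' := a⁻¹ * a' with he'
      refine ⟨⟨⟨hEH e'.2, fun u hu => ?_⟩, fun c hc => hc.2 _ e'.2⟩, e'.2⟩
      have h2 := LinearMap.congr_fun h0 ((⟨v₀, hv₀⟩ : C') : P)
      rw [LinearMap.zero_apply, htq, hmk] at h2
      exact hsing _ e'.2 x₀ hx₀ hx₀M v₀ hv₀ hv₀Z (hbfree _ (hquadC _ e'.2 v₀ (hC'N hv₀)) h2) u hu
  haveI : Finite (Module.End (ZMod 2) P) := Finite.of_injective _ DFunLike.coe_injective
  have hL2 : Nat.card TE * 2 ≤ Nat.card L := by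
    refine (le_of_eq (show Nat.card TE * 2 = Nat.card (TE × Bool) by simp [Nat.card_prod])).trans ?_
    refine Nat.card_le_card_of_injective (fun x : TE × Bool =>
      (⟨if x.2 then 1 + (x.1 : Module.End (ZMod 2) P) else x.1, by
        obtain ⟨⟨_, a, rfl⟩, t⟩ := x
        cases t
        · exact ⟨a, Or.inl rfl⟩
        · exact ⟨a, Or.inr rfl⟩⟩ : L)) ?_
    have hno : ∀ (a a' : E), 1 + tq a ≠ tq a' := fun a a' h => by
      have h1 : tq (a * a') = 1 := by
        rw [hmul, ← h, add_left_comm, hEnd2, add_zero]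
      have h2 := hone (a * a') ⟨v₀, hv₀⟩ (by rw [h1]; rfl)
      exact hv₀Z h2
    rintro ⟨⟨_, a, rfl⟩, t⟩ ⟨⟨_, a', rfl⟩, t'⟩ h
    have h' := congrArg Subtype.val h
    cases t <;> cases t' <;> simp at h'
    · exact Prod.ext (Subtype.ext h') rfl
    · exact absurd h'.symm (hno a' a)
    · exact absurd h' (hno a a')
    · exact Prod.ext (Subtype.ext h') rfl
  have hP : Nat.card P ≤ img φ N E := by
    refine Nat.le_of_mul_le_mul_right ?_ (Nat.card_pos (α := C))
    calc Nat.card P * Nat.card C = Nat.card N := by rw [hN', mul_comm]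
      _ ≤ _ := hoff
  have hpos : 0 < Nat.card A * Nat.card TE := (img_pos N E).trans_le hE1
  have hfin := (Nat.mul_le_mul_left (Nat.card A) hL2).trans (hmain.trans (hP.trans hE1))
  rw [← mul_assoc] at hfin
  omega

end CfsgLib.SThreeFree
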