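import Cfsg.Agent.Lib.SThreeFree.Finale

/-!
In a group not involving `S₃`, the largest subgroup of a module on which all best offenders in a
Sylow `2`-subgroup act trivially is invariant under the whole group.
-/

set_option autoImplicit false
set_option linter.style.haveILetI false
set_option linter.unusedSectionVars false

namespace CfsgLib.SThreeFree

open CfsgLib.Offender (fixSub mem_fixSub fixSub_anti fixSub_inf_le)
open CfsgLib.Conjugacy (cj mem_cj conj_mem_cj cj_cj cj_one cj_mono card_cj cj_eq_of_mem_normalizer)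

variable {X : Type*} [Group X] [Finite X] {V : Type*} [AddCommGroup V] [Finite V]
  {φ : X →* AddMonoid.End V}

/-- A Sylow `2`-subgroup carries the image of a group with elementary abelian image. -/
theorem sylIn_le_sup {N : AddSubgroup V} {A A₂ : Subgroup X} (hA : A ≤ stab φ N)
    (hsq : ∀ a ∈ A, a * a ∈ fixer φ N) (h₂ : SylIn A₂ A) :
    A ≤ A₂ ⊔ (A ⊓ fixer φ N) ∧ meas φ N A ≤ meas φ N A₂ := by
  haveI : Fact (Nat.Prime 2) := ⟨Nat.prime_two⟩
  set K := (fixer φ N).subgroupOf A with hK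
  haveI : K.Normal := ⟨fun k hk a => fixer_conj_mem (hA a.2) hk⟩
  set A' := A₂.subgroupOf A with hA'
  have hp : IsPGroup 2 (↥A ⧸ K) := fun q => by
    obtain ⟨a, rfl⟩ := QuotientGroup.mk'_surjective K q
    exact ⟨1, by
      rw [pow_one, pow_two, ← map_mul]
      exact (QuotientGroup.eq_one_iff _).mpr (hsq a a.2)⟩
  have htop : A' ⊔ K = ⊤ := by
    obtain ⟨k, hk⟩ := IsPGroup.iff_card.mp hp
    obtain ⟨j, -, hj⟩ := (Nat.dvd_prime_pow Nat.prime_two).mp
      ((Subgroup.index_dvd_of_le (le_sup_right : K ≤ A' ⊔ K)).trans (dvd_of_eq hk))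
    rcases j with _ | j
    · exact Subgroup.index_eq_one.mp hj
    · exact absurd ((hj ▸ dvd_pow_self 2 j.succ_ne_zero :
        2 ∣ (A' ⊔ K).index).trans (Subgroup.index_dvd_of_le le_sup_left)) h₂.odd_index
  have h1 : A ≤ A₂ ⊔ (A ⊓ fixer φ N) := by
    intro a ha
    obtain ⟨x, hx, y, hy, e⟩ :=
      Subgroup.mem_sup_of_normal_right.mp (htop.ge (Subgroup.mem_top (⟨a, ha⟩ : A)))
    rw [show a = (x : X) * y from (congrArg Subtype.val e).symm]
    exact Subgroup.mul_mem_sup hx ⟨y.2, hy⟩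
  refine ⟨h1, Nat.mul_le_mul (le_of_eq ?_) (le_of_eq (congrArg (fun U : AddSubgroup V => Nat.card U) ?_))⟩
  · have e1 : K.relIndex A' = K.index := by
      rw [← Subgroup.relIndex_sup_right, htop, Subgroup.relIndex_top_right]
    have e2 : K.relIndex A' = img φ N A₂ := by
      rw [hK, hA', ← Subgroup.relIndex_map_map_of_injective _ _ A.subtype_injective,
        Subgroup.subgroupOf_map_subtype, Subgroup.map_subgroupOf_eq_of_le h₂.le, img,
        ← Subgroup.inf_relIndex_right, inf_assoc, inf_eq_right.mpr h₂.le,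
        Subgroup.inf_relIndex_right]
    rw [← e2, e1]
    rfl
  · refine le_antisymm (fixIn_anti h₂.le) fun v hv => ⟨hv.1, ?_⟩
    exact fixSub_anti φ h1 (fixSub_inf_le φ _ _ ⟨hv.2, fun k hk => hk.2 v hv.1⟩)

theorem stab_fixIn {N : AddSubgroup V} {K : Subgroup X} {g : X} (hg : g ∈ stab φ N)
    (hK : g ∈ Subgroup.normalizer (K : Set X)) : g ∈ stab φ (fixIn φ N K) := by
  rw [mem_stab_iff_mv, ← fixIn_cj, mem_stab_iff_mv.mp hg, cj_eq_of_mem_normalizer hK]

theorem mem_normalizer_of_cj {g : X} {K : Subgroup X} (h : cj g K = K) :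
    g ∈ Subgroup.normalizer (K : Set X) :=
  Subgroup.mem_normalizer_iff_map_conj_eq.mpr h

theorem wc_invariant_aux (hV : ∀ v : V, v + v = 0)
    (hfree : ¬ Cfsg.Involves (Equiv.Perm (Fin 3)) X) (n : ℕ) :
    ∀ (N : AddSubgroup V) (H P : Subgroup X),
      Nat.card N * (Nat.card X + 1) + Nat.card H = n → H ≤ stab φ N → SylIn P H →
      H ≤ stab φ (wc φ N P) := by
  induction n using Nat.strong_induction_on with
  | _ n ih =>
  intro N H P hn hH hP
  have ihN : ∀ (N' : AddSubgroup V) (H' P' : Subgroup X), N' < N → H' ≤ stab φ N' → SylIn P' H' →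
      H' ≤ stab φ (wc φ N' P') := fun N' H' P' hlt h1 h2 => by
    refine ih _ ?_ N' H' P' rfl h1 h2
    have h3 : Nat.card N' < Nat.card N := lt_of_not_ge fun h =>
      hlt.ne (AddSubgroup.eq_of_le_of_card_ge hlt.le h)
    have h4 := H'.card_le_card_group
    have h5 : (Nat.card N' + 1) * (Nat.card X + 1) ≤ Nat.card N * (Nat.card X + 1) :=
      Nat.mul_le_mul_right _ h3
    rw [Nat.add_mul, one_mul] at h5
    omega
  have ihH : ∀ (H' P' : Subgroup X), H' < H → SylIn P' H' → H' ≤ stab φ (wc φ N P') :=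
    fun H' P' hlt h2 => by
    refine ih _ ?_ N H' P' rfl (hlt.le.trans hH) h2
    have h3 : Nat.card H' < Nat.card H := lt_of_not_ge fun h =>
      hlt.ne (Subgroup.eq_of_le_of_card_ge hlt.le h)
    omega
  by_contra hnot
  set W := wc φ N P with hW
  have hmvN : ∀ g ∈ H, mv φ g N = N := fun g hg => mem_stab_iff_mv.mp (hH hg)
  have hPstab : P ≤ stab φ W := (wc_mem N P).2.1
  have hbest : ∀ (g : X), g ∈ H → ∀ {A : Subgroup X}, Best φ N A → Best φ N (cj g A) :=
    fun g hg A hA => by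
      have := hA.cj g
      rwa [hmvN g hg] at this
  have hwc : ∀ q ∈ H, wc φ N (cj q P) = mv φ q W := fun q hq => by
    rw [hW, mv_wc, hmvN q hq]
  -- the Thompson subgroup moves something
  have hJ : ¬ jOf φ N P ≤ fixer φ N := fun h => hnot (by
    have : W = N := le_antisymm (wc_le N P)
      (le_wc le_rfl ⟨hP.le.trans hH, fun A hA hb => (le_jOf hA hb).trans h⟩)
    rw [this]; exact hH)
  have hH1 : H ⊓ Subgroup.normalizer (jOf φ N P : Set X) ≤ stab φ W := by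
    have hlt : fixIn φ N (jOf φ N P) < N := lt_of_le_of_ne inf_le_left fun e =>
      hJ (le_fixer_iff.mpr (inf_eq_left.mp e))
    have hPn : P ≤ H ⊓ Subgroup.normalizer (jOf φ N P : Set X) := le_inf hP.le fun p hp =>
      jOf_normalized (hH (hP.le hp)) (Subgroup.le_normalizer hp)
    rw [hW, ← wc_fixIn_jOf]
    exact ihN _ _ P hlt (fun g hg => stab_fixIn (hH hg.1) hg.2) (hP.of_le hPn inf_le_left)
  -- a best offender stabilizing a conjugate of `W` fixes it
  have hkey : ∀ g ∈ H, ∀ A ≤ H, IsPGroup 2 A → Best φ N A → A ≤ stab φ (mv φ g W) →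
      A ≤ fixer φ (mv φ g W) := by
    intro g hg A hAH hAp hb hAs
    have hM : SylIn P (H ⊓ stab φ W) := hP.of_le (le_inf hP.le hPstab) inf_le_left
    have h1 : cj g⁻¹ A ≤ H ⊓ stab φ W := le_inf
      ((cj_mono _ hAH).trans (cj_eq_self_of_mem (inv_mem hg)).le) (by
        have := cj_le_stab_mv (g := g⁻¹) hAs
        rwa [← mv_mul, inv_mul_cancel, mv_one] at this)
    obtain ⟨m, hm, hle⟩ := hM.exists_cj_le h1 (hAp.map _)
    rw [cj_cj] at hle
    have h2 := (hbest _ (mul_mem hm.1 (inv_mem hg)) hb).le_fixer_wc hle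
    have h3 := cj_le_fixer_mv (g := g * m⁻¹) h2
    rwa [cj_cj, show g * m⁻¹ * (m * g⁻¹) = 1 by group, cj_one, mv_mul,
      mem_stab_iff_mv.mp ((stab φ W).inv_mem hm.2)] at h3
  -- the spanning property
  have hspan : ∀ U ≤ N, W ≤ U → H ≤ stab φ U → U = N := by
    intro U hUN hWU hU
    by_contra hne
    have h1 : wc φ U P = W := le_antisymm (wc_mono hUN) (by
      rw [hW, ← wc_wc N P]; exact wc_mono hWU)
    exact hnot (h1 ▸ ihN U H P (lt_of_le_of_ne hUN hne) hU hP)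
  -- no best offender fixes two conjugates
  have hB : ∀ g₁ ∈ H, ∀ g₂ ∈ H, mv φ g₁ W ≠ mv φ g₂ W → ∀ A ≤ H, IsPGroup 2 A → Best φ N A →
      A ≤ fixer φ (mv φ g₁ W) → A ≤ fixer φ (mv φ g₂ W) → A ≤ fixer φ N := by
    intro g₁ hg₁ g₂ hg₂ hne A hAH hAp hAb hA1 hA2
    by_contra hA
    set 𝒯 := {T : Subgroup X | T ≤ H ∧ IsPGroup 2 T ∧ ¬ jOf φ N T ≤ fixer φ N ∧
      ∃ g₁ ∈ H, ∃ g₂ ∈ H, mv φ g₁ W ≠ mv φ g₂ W ∧
        T ≤ fixer φ (mv φ g₁ W) ∧ T ≤ fixer φ (mv φ g₂ W)} with h𝒯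
    obtain ⟨T, hT, hmax⟩ := (Set.toFinite 𝒯).exists_maximalFor
      (fun T => Nat.card (jOf φ N T)) _ ⟨A, hAH, hAp, fun h => hA ((le_jOf le_rfl hAb).trans h),
        g₁, hg₁, g₂, hg₂, hne, hA1, hA2⟩
    obtain ⟨hTH, hTp, hTJ, u₁, hu₁, u₂, hu₂, hne', hT1, hT2⟩ := hT
    set J := jOf φ N T with hJT
    have hJf : ∀ {g : X}, T ≤ fixer φ (mv φ g W) → J ≤ fixer φ (mv φ g W) := fun h =>
      (jOf_le N T).trans h
    have hbig : ∀ T' ∈ 𝒯, J ≤ jOf φ N T' → jOf φ N T' ≤ J := fun T' hT' hle =>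
      (Subgroup.eq_of_le_of_card_ge hle (hmax hT' (Subgroup.card_le_of_le hle))).ge
    have hsyl : ∀ u ∈ H, T ≤ fixer φ (mv φ u W) →
        ∃ q ∈ H, mv φ q W = mv φ u W ∧ T ≤ cj q P := by
      intro u hu hTu
      have h1 : cj u⁻¹ T ≤ H ⊓ stab φ W := le_inf
        ((cj_mono _ hTH).trans (cj_eq_self_of_mem (inv_mem hu)).le) (by
          have := cj_le_fixer_mv (g := u⁻¹) hTu
          rw [← mv_mul, inv_mul_cancel, mv_one] at this
          exact this.trans (fixer_le_stab W))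
      have hM : SylIn P (H ⊓ stab φ W) := hP.of_le (le_inf hP.le hPstab) inf_le_left
      obtain ⟨m, hm, hle⟩ := hM.exists_cj_le h1 (hTp.map _)
      rw [cj_cj] at hle
      refine ⟨u * m⁻¹, mul_mem hu (inv_mem hm.1), ?_, ?_⟩
      · rw [mv_mul, mem_stab_iff_mv.mp ((stab φ W).inv_mem hm.2)]
      · have := cj_inv_le hle
        rwa [mul_inv_rev, inv_inv] at this
    -- a further best offender
    have hgrow : ∀ q ∈ H, T ≤ cj q P → jOf φ N (cj q P) ≠ J →
        ∃ E, E ≤ cj q P ∧ Best φ N E ∧ ¬ E ≤ J ∧ E ≤ H ⊓ Subgroup.normalizer (J : Set X) := by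
      intro q hq hTq hneq
      have hqH : cj q P ≤ H := (cj_mono q hP.le).trans (cj_eq_self_of_mem hq).le
      obtain ⟨E, hE, hEJ, hEn⟩ := exists_grow (K := J) (hP.pgroup.map _)
        {E | E ≤ cj q P ∧ Best φ N E} (fun E hE => hE.1)
        (fun E hE x hx => ⟨(cj_mono x hE.1).trans (cj_eq_self_of_mem hx).le,
          hbest x (hqH hx) hE.2⟩)
        (fun L hL => jOf_le_iff.mpr fun E hE hb => hL E ⟨hE.trans hTq, hb⟩ (le_jOf hE hb))
        (by
          by_contra h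
          push Not at h
          exact hneq (le_antisymm (jOf_le_iff.mpr fun E hE hb => h E ⟨hE, hb⟩) (jOf_mono hTq)))
      exact ⟨E, hE.1, hE.2, hEJ, le_inf (hE.1.trans hqH) hEn⟩
    have hJq : ∀ q ∈ H, T ≤ cj q P → ∀ E ≤ cj q P, Best φ N E → J ⊔ E ≤ jOf φ N (J ⊔ E) := by
      intro q _ _ E _ hb
      exact sup_le (jOf_le_iff.mpr fun B hB hbB => le_jOf ((le_jOf hB hbB).trans le_sup_left) hbB)
        (le_jOf le_sup_right hb)
    -- the normalizer of `J` stabilizes both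
    have hnorm : ∀ u ∈ H, T ≤ fixer φ (mv φ u W) →
        H ⊓ Subgroup.normalizer (J : Set X) ≤ stab φ (mv φ u W) := by
      intro u hu hTu
      obtain ⟨q, hq, hqW, hTq⟩ := hsyl u hu hTu
      by_cases heq : jOf φ N (cj q P) = J
      · intro x hx
        have hJq' : cj q (jOf φ N P) = J := by rw [cj_jOf, hmvN q hq, heq]
        have h1 : q⁻¹ * x * q ∈ stab φ W := hH1 ⟨mul_mem (mul_mem (H.inv_mem hq) hx.1) hq,
          mem_normalizer_of_cj (by
            rw [← cj_cj, ← cj_cj, hJq', cj_eq_of_mem_normalizer hx.2, ← hJq', cj_cj,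
              inv_mul_cancel, cj_one])⟩
        have h2 := mem_stab_mv (g := q) h1
        rwa [show q * (q⁻¹ * x * q) * q⁻¹ = x by group, hqW] at h2
      obtain ⟨E, hEq, hEb, hEJ, hEn⟩ := hgrow q hq hTq heq
      set H' := H ⊓ Subgroup.normalizer (J : Set X) with hH'
      have hH'lt : H' < H := by
        refine lt_of_le_of_ne inf_le_left fun e => ?_
        have hWY : ∀ w ∈ H, T ≤ fixer φ (mv φ w W) → W ≤ fixIn φ N J := by
          intro w hw hTw x hx
          have h1 : φ w x ∈ fixIn φ N J :=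
            ⟨((hH hw) x).mpr (wc_le N P hx), le_fixer_iff.mp (hJf hTw) (act_mem_mv hx)⟩
          exact ((stab_fixIn (hH hw) (e.ge hw).2) x).mp h1
        exact hTJ (le_fixer_iff.mpr (inf_eq_left.mp (hspan _ inf_le_left (hWY u hu hTu)
          fun g hg => stab_fixIn (hH hg) (e.ge hg).2)))
      have hJH : J ≤ H' := le_inf ((jOf_le N T).trans hTH) Subgroup.le_normalizer
      have hR : J ⊔ E ≤ cj q P := sup_le ((jOf_le N T).trans hTq) hEq
      obtain ⟨P', hRP', hP'⟩ := exists_sylIn (sup_le hJH hEn : J ⊔ E ≤ H') ((hP.pgroup.map _).to_le hR)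
      obtain ⟨q', hq', hP'q⟩ := hP.exists_le (hP'.le.trans hH'lt.le) hP'.pgroup
      have hJR : ∀ {g : X}, g ∈ H → J ⊔ E ≤ cj g P → J ⊔ E ≤ fixer φ (mv φ g W) := fun hg h => by
        refine sup_le (jOf_le_iff.mpr fun B hB hbB => ?_) ?_ <;> rw [← hwc _ hg]
        · exact hbB.le_fixer_wc ((le_jOf hB hbB).trans (le_sup_left.trans h))
        · exact hEb.le_fixer_wc (le_sup_right.trans h)
      have hRH : J ⊔ E ≤ H := (sup_le hJH hEn).trans inf_le_left
      have hRJ : ¬ J ⊔ E ≤ J := fun h => hEJ (le_sup_right.trans h)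
      have hq'W : mv φ q' W = mv φ q W := by
        by_contra hne''
        exact hRJ ((hJq q hq hTq E hEq hEb).trans (hbig _ ⟨hRH, (hP.pgroup.map _).to_le hR,
          fun h => hTJ ((le_sup_left.trans (hJq q hq hTq E hEq hEb)).trans h),
          q', hq', q, hq, hne'', hJR hq' (hRP'.trans hP'q), hJR hq hR⟩
          (le_sup_left.trans (hJq q hq hTq E hEq hEb))))
      have hUW : mv φ u W ≤ wc φ N P' := by
        rw [← hqW, ← hq'W, ← hwc q' hq']
        exact wc_anti hP'q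
      have hinv := ihH H' P' hH'lt hP'
      have hK : ∀ g ∈ H', ∀ k ∈ H' ⊓ fixer φ (wc φ N P'), g * k * g⁻¹ ∈ H' ⊓ fixer φ (wc φ N P') :=
        fun g hg k hk => ⟨mul_mem (mul_mem hg hk.1) (Subgroup.inv_mem _ hg), fixer_conj_mem (hinv hg) hk.2⟩
      intro x hx
      obtain ⟨k, hk, m, hm, rfl⟩ := hP'.frattini inf_le_left hK hx
      refine mul_mem (fixer_le_stab _ (fixer_anti hUW hk.2)) ?_
      have hJP : jOf φ N P' ≤ P' ⊓ (H' ⊓ fixer φ (wc φ N P')) :=
        le_inf (jOf_le N P') (le_inf ((jOf_le N P').trans hP'.le) jOf_le_fixer_wc)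
      have hmn : m ∈ Subgroup.normalizer (jOf φ N P' : Set X) := by
        rw [← jOf_eq hJP inf_le_left]
        exact jOf_normalized (hH hm.1.1) hm.2
      rw [mem_stab_iff_mv]
      by_contra hne''
      have hfix : ∀ {g : X}, mv φ g W ≤ wc φ N P' → jOf φ N P' ≤ fixer φ (mv φ g W) := fun h =>
        jOf_le_fixer_wc.trans (fixer_anti h)
      have hJle : J ⊔ E ≤ jOf φ N P' :=
        (hJq q hq hTq E hEq hEb).trans (jOf_mono hRP')
      have hmm : mv φ (m * u) W ≤ wc φ N P' := by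
        rw [mv_mul]
        exact (mv_mono hUW).trans (mem_stab_iff_mv.mp (hinv hm.1)).le
      have hjj : jOf φ N P' ≤ jOf φ N (jOf φ N P') :=
        jOf_le_iff.mpr fun B hB hb => le_jOf (le_jOf hB hb) hb
      refine hRJ ((hJle.trans hjj).trans (hbig _ ⟨(jOf_le N P').trans (hP'.le.trans inf_le_left),
        hP'.pgroup.to_le (jOf_le N P'), fun h => hTJ (((le_sup_left.trans hJle).trans hjj).trans h),
        m * u, mul_mem hm.1.1 hu, u, hu, by rwa [mv_mul], hfix hmm, hfix hUW⟩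
        ((le_sup_left.trans hJle).trans hjj)))
    -- both Sylow subgroups add nothing
    obtain ⟨q₁, hq₁, hW₁, hTq₁⟩ := hsyl u₁ hu₁ hT1
    obtain ⟨q₂, hq₂, hW₂, hTq₂⟩ := hsyl u₂ hu₂ hT2
    have hsame : ∀ q ∈ H, ∀ u ∈ H, mv φ q W ≠ mv φ u W → T ≤ cj q P → T ≤ fixer φ (mv φ q W) →
        T ≤ fixer φ (mv φ u W) → jOf φ N (cj q P) = J := by
      intro q hq u hu hne'' hTq hTf hTu
      by_contra heq
      obtain ⟨E, hEq, hEb, hEJ, hEn⟩ := hgrow q hq hTq heq
      have hEp : IsPGroup 2 E := (hP.pgroup.map _).to_le hEq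
      have hEu := hkey u hu E (hEn.trans inf_le_left) hEp hEb (hEn.trans (hnorm u hu hTu))
      have hEf : E ≤ fixer φ (mv φ q W) := by
        rw [← hwc q hq]; exact hEb.le_fixer_wc hEq
      exact hEJ ((le_sup_right.trans (hJq q hq hTq E hEq hEb)).trans (hbig _
        ⟨sup_le ((jOf_le N T).trans hTH) (hEn.trans inf_le_left),
          (hP.pgroup.map _).to_le (sup_le ((jOf_le N T).trans hTq) hEq),
          fun h => hTJ ((le_sup_left.trans (hJq q hq hTq E hEq hEb)).trans h),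
          q, hq, u, hu, hne'', sup_le (hJf hTf) hEf, sup_le (hJf hTu) hEu⟩
        (le_sup_left.trans (hJq q hq hTq E hEq hEb))))
    have e₁ := hsame q₁ hq₁ u₂ hu₂ (hW₁ ▸ hne') hTq₁ (hW₁ ▸ hT1) hT2
    have e₂ := hsame q₂ hq₂ u₁ hu₁ (hW₂ ▸ hne'.symm) hTq₂ (hW₂ ▸ hT2) hT1
    have hx : q₂ * q₁⁻¹ ∈ H ⊓ Subgroup.normalizer (J : Set X) := by
      refine ⟨mul_mem hq₂ (H.inv_mem hq₁), mem_normalizer_of_cj ?_⟩
      conv_lhs => rw [← e₁, ← hmvN q₁ hq₁, ← cj_jOf, cj_cj, inv_mul_cancel_right, cj_jOf,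
        hmvN q₂ hq₂, e₂]
    have h1 := mem_stab_iff_mv.mp (hnorm u₁ hu₁ hT1 hx)
    rw [← hW₁, ← mv_mul, inv_mul_cancel_right] at h1
    exact hne' (hW₁.symm.trans (h1.symm.trans hW₂))
  -- a minimal offender
  obtain ⟨A₀, hA₀P, hA₀b, hA₀⟩ : ∃ A ≤ P, Best φ N A ∧ ¬ A ≤ fixer φ N := by
    by_contra h
    push Not at h
    exact hJ (jOf_le_iff.mpr h)
  obtain ⟨E, -, hEmin⟩ := exists_minimal_le_of_wellFoundedLT
    (fun A : Subgroup X => A ≤ P ∧ (∀ a ∈ A, a * a ∈ fixer φ N) ∧ ¬ A ≤ fixer φ N ∧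
      Nat.card N ≤ meas φ N A) A₀ ⟨hA₀P, hA₀b.sq, hA₀, hA₀b.card_le⟩
  obtain ⟨⟨hEP, hEsq, hEne, hEoff⟩, hEmin'⟩ := hEmin
  have hEH : E ≤ H := hEP.trans hP.le
  have hmin : ∀ B ≤ E, ¬ B ≤ fixer φ N → Nat.card N ≤ meas φ N B → B = E := fun B hB h1 h2 =>
    le_antisymm hB (hEmin' ⟨hB.trans hEP, fun b hb => hEsq b (hB hb), h1, h2⟩ hB)
  have hEb : Best φ N E := by
    obtain ⟨B, hBE, hBb, hBne⟩ := exists_best (hEH.trans hH) hEsq hEoff hEne
    exact hmin B hBE hBne hBb.card_le ▸ hBb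
  have hEW : E ≤ fixer φ W := hEb.le_fixer_wc hEP
  have hEp : IsPGroup 2 E := hP.pgroup.to_le hEP
  have h1H : (1 : X) ∈ H := one_mem H
  have hEuniq : ∀ g ∈ H, E ≤ fixer φ (mv φ g W) → mv φ g W = W := fun g hg h => by
    by_contra hne
    refine hEne (hB g hg 1 h1H (by rwa [mv_one]) E hEH hEp hEb h ?_)
    rwa [mv_one]
  -- proper overgroups
  have hL : ∀ L ≤ H, E ≤ L → L ≠ H → L ≤ stab φ W := by
    intro L hLH hEL hne
    obtain ⟨P', hEP', hP'⟩ := exists_sylIn hEL hEp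
    obtain ⟨q, hq, hP'q⟩ := hP.exists_le (hP'.le.trans hLH) hP'.pgroup
    have hqW : mv φ q W = W := hEuniq q hq (by
      rw [← hwc q hq]; exact hEb.le_fixer_wc (hEP'.trans hP'q))
    have hWW : W ≤ wc φ N P' := by
      rw [← hqW, ← hwc q hq]
      exact wc_anti hP'q
    have hinv := ihH L P' (lt_of_le_of_ne hLH hne) hP'
    have hK : ∀ g ∈ L, ∀ k ∈ L ⊓ fixer φ (wc φ N P'), g * k * g⁻¹ ∈ L ⊓ fixer φ (wc φ N P') :=
      fun g hg k hk => ⟨mul_mem (mul_mem hg hk.1) (Subgroup.inv_mem _ hg), fixer_conj_mem (hinv hg) hk.2⟩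
    intro x hx
    obtain ⟨k, hk, m, hm, rfl⟩ := hP'.frattini inf_le_left hK hx
    refine mul_mem (fixer_le_stab _ (fixer_anti hWW hk.2)) ?_
    rw [mem_stab_iff_mv]
    refine hEuniq m (hLH hm.1) ?_
    exact (hEb.le_fixer_wc hEP').trans
      (fixer_anti ((mv_mono hWW).trans (mem_stab_iff_mv.mp (hinv hm.1)).le))
  have hgen : ∀ y ∈ H, y ∉ stab φ W → E ⊔ cj y E = H := by
    intro y hy hyW
    have hyE : cj y E ≤ H := (cj_mono y hEH).trans (cj_eq_self_of_mem hy).le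
    by_contra hne
    have h1 := (le_sup_right : cj y E ≤ E ⊔ cj y E).trans
      (hL _ (sup_le hEH hyE) le_sup_left hne)
    have h2 : cj y E ≤ fixer φ (mv φ 1 W) :=
      hkey 1 h1H _ hyE (hEp.map _) (hbest y hy hEb) (by rwa [mv_one])
    have h3 := hB y hy 1 h1H (fun e => hyW (by rw [mem_stab_iff_mv, e, mv_one])) _ hyE (hEp.map _)
      (hbest y hy hEb) (cj_le_fixer_mv hEW) h2
    refine hEne ?_
    have h4 := cj_le_fixer_mv (g := y⁻¹) h3
    rwa [cj_cj, inv_mul_cancel, cj_one, hmvN _ (inv_mem hy)] at h4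
  have hprop : ∀ y ∈ H, y ∉ stab φ W → ∀ L ≤ H, cj y E ≤ L → L ≠ H →
      L ≤ stab φ (mv φ y W) := by
    intro y hy _ L hLH hyL hne
    have h1 : cj y⁻¹ L ≤ stab φ W := by
      refine hL _ ((cj_mono _ hLH).trans (cj_eq_self_of_mem (inv_mem hy)).le) ?_ fun e => hne ?_
      · have := cj_mono y⁻¹ hyL
        rwa [cj_cj, inv_mul_cancel, cj_one] at this
      · have := congrArg (cj y) e
        rwa [cj_cj, mul_inv_cancel, cj_one, cj_eq_self_of_mem hy] at this
    have h2 := cj_le_stab_mv (g := y) h1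
    rwa [cj_cj, mul_inv_cancel, cj_one] at h2
  obtain ⟨x₀, hx₀, hx₀W⟩ := SetLike.not_le_iff_exists.mp hnot
  refine finale hV hfree hH hEH hEsq hEne hEoff
    (quadratic_of_minimal hV (hEH.trans hH) hEsq hEoff hEne hmin)
    (le_inf (wc_le N P) (le_fixer_iff.mp hEW)) hspan hx₀ hx₀W hgen hprop ?_
  -- no offenders trivial modulo the fixed points of `H`
  intro D hDH hDtr hDoff
  set Z₀ := fixIn φ N H with hZ₀
  let R : Subgroup X :=
    { carrier := {g | g ∈ H ∧ ∀ u ∈ N, φ g u - u ∈ Z₀}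
      one_mem' := ⟨h1H, fun u _ => by rw [act_one, sub_self]; exact zero_mem _⟩
      mul_mem' := fun {g g'} hg hg' => ⟨mul_mem hg.1 hg'.1, fun u hu => by
        rw [act_mul, ← sub_add_sub_cancel (φ g (φ g' u)) (φ g u) u, ← map_sub,
          (hg'.2 u hu).2 g hg.1]
        exact add_mem (hg'.2 u hu) (hg.2 u hu)⟩
      inv_mem' := fun {g} hg => ⟨inv_mem hg.1, fun u hu => by
        have h1 := hg.2 (φ g⁻¹ u) (((hH (inv_mem hg.1)) u).mpr hu)
        rw [act_act_inv] at h1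
        rw [← neg_mem_iff, neg_sub]
        exact h1⟩ }
  have hRH : R ≤ H := fun g hg => hg.1
  have hRsq : ∀ g ∈ R, g * g ∈ fixer φ N := fun g hg u hu => by
    have h1 := hg.2 u hu
    have h2 : φ g (φ g u) = φ g (φ g u - u) + φ g u := by rw [map_sub, sub_add_cancel]
    rw [act_mul, h2, h1.2 g hg.1, sub_add_eq_add_sub, hV, zero_sub, neg_eq_iff_add_eq_zero, hV]
  have hRn : ∀ g ∈ H, ∀ r ∈ R, g * r * g⁻¹ ∈ R := fun g hg r hr =>
    ⟨mul_mem (mul_mem hg hr.1) (inv_mem hg), fun u hu => by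
      have hu' : φ g⁻¹ u ∈ N := ((hH (inv_mem hg)) u).mpr hu
      have e : φ (g * r * g⁻¹) u - u = φ g (φ r (φ g⁻¹ u) - φ g⁻¹ u) := by
        rw [map_sub, act_act_inv, ← act_mul, ← act_mul, mul_assoc]
      rw [e, (hr.2 _ hu').2 g hg]
      exact hr.2 _ hu'⟩
  have hRst : ∀ g ∈ H, R ≤ stab φ (mv φ g W) := by
    intro g hg
    have hQ := (hP.cj hg).inf hRH hRn
    refine (sylIn_le_sup (hRH.trans hH) hRsq hQ).1.trans (sup_le ?_ ?_)
    · refine inf_le_left.trans ?_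
      exact cj_le_stab_mv hPstab
    · exact inf_le_right.trans ((fixer_anti ((mv_mono (wc_le N P)).trans (hmvN g hg).le)).trans
        (fixer_le_stab _))
  have hDR : D ≤ R := fun d hd => ⟨hDH hd, hDtr d hd⟩
  obtain ⟨D₂, -, hD₂⟩ := exists_sylIn (bot_le : ⊥ ≤ D) IsPGroup.of_bot
  obtain ⟨hDsup, hD₂m⟩ := sylIn_le_sup (hDH.trans hH) (fun d hd => hRsq d (hDR hd)) hD₂
  by_contra hD
  have hD₂ne : ¬ D₂ ≤ fixer φ N := fun h => hD (hDsup.trans (sup_le h inf_le_right))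
  obtain ⟨A, hAD, hAb, hAne⟩ := exists_best ((hD₂.le.trans hDH).trans hH)
    (fun d hd => hRsq d (hDR (hD₂.le hd))) (hDoff.trans hD₂m) hD₂ne
  set U := ⨆ h : H, mv φ (h : X) W with hU
  have hUA : U ≤ fixSub φ A := iSup_le fun h => le_fixer_iff.mp
    (hkey h h.2 A ((hAD.trans hD₂.le).trans hDH) (hD₂.pgroup.to_le hAD) hAb
      ((hAD.trans hD₂.le).trans (hDR.trans (hRst h h.2))))
  refine hAne (le_fixer_iff.mpr (le_trans (hspan U ?_ ?_ ?_).ge hUA))
  · exact iSup_le fun h => (mv_mono (wc_le N P)).trans (hmvN _ h.2).le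
  · have h1 := le_iSup (fun h : H => mv φ (h : X) W) 1
    rwa [OneMemClass.coe_one, mv_one] at h1
  · intro g hg
    refine mem_stab_of_forall fun v hv => ?_
    have hle : mv φ g U ≤ U := by
      refine AddSubgroup.map_le_iff_le_comap.mpr (iSup_le fun h w hw => ?_)
      refine le_iSup (fun h : H => mv φ (h : X) W) (⟨g, hg⟩ * h) ?_
      show φ g w ∈ mv φ (g * (h : X)) W
      rw [mv_mul]
      exact act_mem_mv hw
    exact hle (act_mem_mv hv)

/-- `W(P, N)` is invariant under `H`. -/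
theorem wc_invariant (hV : ∀ v : V, v + v = 0) (hfree : ¬ Cfsg.Involves (Equiv.Perm (Fin 3)) X)
    {N : AddSubgroup V} {H P : Subgroup X} (hH : H ≤ stab φ N) (hP : SylIn P H) :
    H ≤ stab φ (wc φ N P) :=
  wc_invariant_aux hV hfree _ N H P rfl hH hP

end CfsgLib.SThreeFree
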