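import Cfsg.Agent.Lib.SThreeFree.Invariant
import Cfsg.Agent.Lib.Fitting.Basic

/-!
A group with trivial `2`-core not involving `S₃` has no offender on a faithful module over two
elements.
-/

set_option autoImplicit false
set_option linter.style.haveILetI false
set_option linter.unusedSectionVars false

namespace CfsgLib.SThreeFree

open CfsgLib.Offender (fixSub)
open CfsgLib.Conjugacy (cj)

universe u v

theorem pCore_normal_subgroup_eq_bot {X : Type*} [Group X] [Finite X] (K : Subgroup X) [hK : K.Normal]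
    (h : Cfsg.pCore 2 X = ⊥) : Cfsg.pCore 2 K = ⊥ := by
  haveI : Fact (Nat.Prime 2) := ⟨Nat.prime_two⟩
  haveI := CfsgLib.Fitting.pCore_normal (G := K) 2
  set Q := Cfsg.pCore 2 K with hQ
  have hQp : IsPGroup 2 Q := CfsgLib.Fitting.pCore_isPGroup 2
  haveI : (Q.map K.subtype).Normal := ⟨by
    rintro _ ⟨q, hq, rfl⟩ g
    let c : K →* K :=
      { toFun := fun k => ⟨g * k * g⁻¹, hK.conj_mem k k.2 g⟩
        map_one' := Subtype.ext (by simp)
        map_mul' := fun a b => Subtype.ext (by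
          show g * (a * b : X) * g⁻¹ = g * a * g⁻¹ * (g * b * g⁻¹); group) }
    have hc : Function.Surjective c := fun k =>
      ⟨⟨g⁻¹ * k * g, by simpa using hK.conj_mem k k.2 g⁻¹⟩, Subtype.ext (by
        show g * (g⁻¹ * k * g) * g⁻¹ = k; group)⟩
    haveI : (Q.map c).Normal := Subgroup.Normal.map inferInstance c hc
    exact ⟨c q, (CfsgLib.Fitting.le_pCore inferInstance (hQp.map c) :
      Q.map c ≤ Q) ⟨q, hq, rfl⟩, rfl⟩⟩
  have h1 : Q.map K.subtype ≤ ⊥ :=
    h ▸ CfsgLib.Fitting.le_pCore inferInstance (hQp.map K.subtype)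
  exact (Subgroup.map_eq_bot_iff_of_injective _ K.subtype_injective).mp (le_bot_iff.mp h1)

theorem no_offender_aux (n : ℕ) : ∀ (V : Type v) [AddCommGroup V] [Finite V], Nat.card V = n →
    (∀ v : V, v + v = 0) → ∀ (X : Type u) [Group X] [Finite X] (φ : X →* AddMonoid.End V),
    Function.Injective φ → ¬ Cfsg.Involves (Equiv.Perm (Fin 3)) X → Cfsg.pCore 2 X = ⊥ →
    ∀ A : Subgroup X, (∀ a ∈ A, a * a = 1) →
      Nat.card V ≤ Nat.card A * Nat.card (fixSub φ A) → A = ⊥ := by
  induction n using Nat.strong_induction_on with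
  | _ n ih =>
  intro V _ _ hn hV X _ _ φ hinj hfree hcore A hsq hoff
  by_contra hA
  haveI : Fact (Nat.Prime 2) := ⟨Nat.prime_two⟩
  have hfix : fixer φ (⊤ : AddSubgroup V) = ⊥ := eq_bot_iff.mpr fun x hx =>
    Subgroup.mem_bot.mpr (hinj ((DFunLike.ext _ _ fun v => hx v trivial).trans (map_one φ).symm))
  have hst : ∀ K : Subgroup X, K ≤ stab φ (⊤ : AddSubgroup V) := fun K x _ v => by simp
  have hmeas : Nat.card (⊤ : AddSubgroup V) ≤ meas φ ⊤ A := by
    rw [meas, img, hfix, Subgroup.relIndex_bot_left, fixIn, top_inf_eq, AddSubgroup.card_top]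
    exact hoff
  have hne : ¬ A ≤ fixer φ (⊤ : AddSubgroup V) := fun h => hA (le_bot_iff.mp (hfix ▸ h))
  obtain ⟨B, hBA, hBb, hBne⟩ := exists_best (hst A)
    (fun a ha => by rw [hsq a ha]; exact one_mem _) hmeas hne
  have hBp : IsPGroup 2 B := fun b => ⟨1, by
    rw [pow_one, pow_two]; exact Subtype.ext (hsq b (hBA b.2))⟩
  obtain ⟨P, hBP, hP⟩ := exists_sylIn (le_top : B ≤ ⊤) hBp
  set W := wc φ (⊤ : AddSubgroup V) P with hW
  have hinv : ∀ x, x ∈ stab φ W := fun x =>
    wc_invariant hV hfree (hst ⊤) hP (Subgroup.mem_top x)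
  have hBW : B ≤ fixer φ W := hBb.le_fixer_wc hBP
  -- `W` is not trivial
  haveI : Nontrivial V := by
    by_contra h
    haveI := not_nontrivial_iff_subsingleton.mp h
    exact hBne fun b _ v _ => Subsingleton.elim _ _
  obtain ⟨w₀, hw₀, hw₀W⟩ : ∃ v : V, v ≠ 0 ∧ v ∈ W := by
    let act : ↥P →* Function.End V :=
      { toFun := fun x => (φ (x : X) : V → V)
        map_one' := funext fun v => act_one φ v
        map_mul' := fun a b => funext fun v => act_mul φ a b v }
    letI : MulAction ↥P V := MulAction.compHom _ act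
    have h2 : 2 ∣ Nat.card V := by
      obtain ⟨v, hv⟩ := exists_ne (0 : V)
      have h1 : addOrderOf v ∣ 2 := addOrderOf_dvd_iff_nsmul_eq_zero.mpr (by rw [two_nsmul, hV])
      rcases (Nat.dvd_prime Nat.prime_two).mp h1 with h | h
      · exact absurd (AddMonoid.addOrderOf_eq_one_iff.mp h) hv
      · exact h ▸ addOrderOf_dvd_natCard _
    obtain ⟨v, hv, hv0⟩ := hP.pgroup.exists_fixed_point_of_prime_dvd_card_of_fixed_point V h2
      (a := 0) (show ∀ x : ↥P, φ (x : X) 0 = 0 from fun x => map_zero (φ (x : X)))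
    exact ⟨v, hv0.symm, fixIn_le_wc _ _ ⟨trivial, fun x hx => hv ⟨x, hx⟩⟩⟩
  -- pass to the quotient
  set K := fixer φ W with hK
  haveI hKn : K.Normal := ⟨fun k hk g => fixer_conj_mem (hinv g) hk⟩
  let ψ : K →* AddMonoid.End (V ⧸ W) :=
    { toFun := fun k => QuotientAddGroup.map W W (φ (k : X)) (fun v hv => ((hinv k) v).mpr hv)
      map_one' := DFunLike.ext _ _ fun q => by
        induction q using QuotientAddGroup.induction_on with
        | H v => exact congrArg QuotientAddGroup.mk (act_one φ v)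
      map_mul' := fun a b => DFunLike.ext _ _ fun q => by
        induction q using QuotientAddGroup.induction_on with
        | H v => exact congrArg QuotientAddGroup.mk (act_mul φ a b v) }
  let R : Subgroup X := ψ.ker.map K.subtype
  have hR : ∀ x ∈ R, ∀ v, φ x v - v ∈ W := by
    rintro _ ⟨k, hk, rfl⟩ v
    have h1 : (QuotientAddGroup.mk (φ (k : X) v) : V ⧸ W) = QuotientAddGroup.mk v :=
      DFunLike.congr_fun (MonoidHom.mem_ker.mp hk) (v : V ⧸ W)
    rwa [eq_comm, QuotientAddGroup.eq, neg_add_eq_sub] at h1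
  haveI hRn : R.Normal := ⟨by
    intro x hx g
    obtain ⟨k, hk, rfl⟩ := id hx
    refine ⟨⟨g * (k : X) * g⁻¹, hKn.conj_mem k k.2 g⟩, MonoidHom.mem_ker.mpr ?_, rfl⟩
    refine DFunLike.ext _ _ fun q => ?_
    induction q using QuotientAddGroup.induction_on with
    | H v =>
      show (QuotientAddGroup.mk (φ (g * (k : X) * g⁻¹) v) : V ⧸ W) = QuotientAddGroup.mk v
      rw [eq_comm, QuotientAddGroup.eq, neg_add_eq_sub]
      have e : φ (g * (k : X) * g⁻¹) v - v = φ g (φ (k : X) (φ g⁻¹ v) - φ g⁻¹ v) := by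
        rw [map_sub, act_act_inv, ← act_mul, ← act_mul, mul_assoc]
      rw [e]
      exact ((hinv g) _).mpr (hR _ hx _)⟩
  have hRbot : R = ⊥ := by
    refine le_bot_iff.mp (hcore ▸ CfsgLib.Fitting.le_pCore hRn fun r => ⟨1, ?_⟩)
    rw [pow_one, pow_two]
    refine Subtype.ext (hinj (DFunLike.ext _ _ fun v => ?_))
    have hk : (r : X) ∈ K := by obtain ⟨k, -, e⟩ := r.2; rw [← e]; exact k.2
    have h1 := hR _ r.2 v
    have h2 : φ (r : X) (φ (r : X) v) = φ (r : X) (φ (r : X) v - v) + φ (r : X) v := by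
      rw [map_sub, sub_add_cancel]
    show φ ((r : X) * (r : X)) v = φ 1 v
    rw [act_mul, h2, hk _ h1, sub_add_eq_add_sub, hV, zero_sub, neg_eq_iff_add_eq_zero.mpr (hV v),
      act_one]
  have hψ : Function.Injective ψ := (injective_iff_map_eq_one ψ).mpr fun k hk => by
    have h1 : (k : X) ∈ R := ⟨k, MonoidHom.mem_ker.mpr hk, rfl⟩
    rw [hRbot, Subgroup.mem_bot] at h1
    exact Subtype.ext h1
  have hV' : ∀ q : V ⧸ W, q + q = 0 := fun q => by
    induction q using QuotientAddGroup.induction_on with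
    | H v => rw [← QuotientAddGroup.mk_add, hV, QuotientAddGroup.mk_zero]
  have hlt : Nat.card (V ⧸ W) < n := by
    rw [← hn, AddSubgroup.card_eq_card_quotient_mul_card_addSubgroup W]
    refine lt_mul_of_one_lt_right Nat.card_pos ?_
    haveI : Nontrivial W := ⟨⟨w₀, hw₀W⟩, 0, fun h => hw₀ (congrArg Subtype.val h)⟩
    exact Finite.one_lt_card
  set B' := B.subgroupOf K with hB'
  have hcB : Nat.card B' = Nat.card B := Nat.card_congr (Subgroup.subgroupOfEquivOfLe hBW).toEquiv
  set C := fixIn φ (⊤ : AddSubgroup V) B with hC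
  have hWC : W ≤ C := le_inf le_top (le_fixer_iff.mp hBW)
  have hcC : Nat.card C ≤ Nat.card (fixSub ψ B') * Nat.card W := by
    rw [AddSubgroup.card_eq_card_quotient_mul_card_addSubgroup (W.addSubgroupOf C),
      Nat.card_congr (AddSubgroup.addSubgroupOfEquivOfLe hWC).toEquiv]
    refine Nat.mul_le_mul_right _ (Nat.card_le_card_of_injective
      (fun q => (⟨((q.out : C) : V), fun b hb => congrArg QuotientAddGroup.mk
        ((q.out : C).2.2 b hb)⟩ : fixSub ψ B')) fun q r h => ?_)
    have h1 := congrArg Subtype.val h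
    rw [QuotientAddGroup.eq] at h1
    rw [← QuotientAddGroup.out_eq' q, ← QuotientAddGroup.out_eq' r, QuotientAddGroup.eq,
      AddSubgroup.mem_addSubgroupOf]
    exact h1
  have hBoff := hBb.card_le
  rw [meas, img, hfix, Subgroup.relIndex_bot_left, AddSubgroup.card_top] at hBoff
  have hoff' : Nat.card (V ⧸ W) ≤ Nat.card B' * Nat.card (fixSub ψ B') := by
    refine Nat.le_of_mul_le_mul_right ?_ (Nat.card_pos (α := W))
    rw [← AddSubgroup.card_eq_card_quotient_mul_card_addSubgroup, hcB, mul_assoc]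
    exact hBoff.trans (Nat.mul_le_mul_left _ hcC)
  have hB'bot := ih _ hlt (V ⧸ W) rfl hV' K ψ hψ
    (fun h => hfree (CfsgLib.Offender.involves_of_injective K.subtype K.subtype_injective h))
    (pCore_normal_subgroup_eq_bot K hcore) B'
    (fun b hb => Subtype.ext (hsq _ (hBA hb))) hoff'
  refine hBne fun b hb => ?_
  have h1 : (⟨b, hBW hb⟩ : K) ∈ B' := hb
  rw [hB'bot, Subgroup.mem_bot] at h1
  rw [show b = 1 from congrArg Subtype.val h1]
  exact one_mem _

/-- No offenders in a group with trivial `2`-core not involving `S₃`. -/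
theorem no_offender {V : Type v} [AddCommGroup V] [Finite V] (hV : ∀ v : V, v + v = 0)
    {X : Type u} [Group X] [Finite X] (φ : X →* AddMonoid.End V) (hinj : Function.Injective φ)
    (hfree : ¬ Cfsg.Involves (Equiv.Perm (Fin 3)) X) (hcore : Cfsg.pCore 2 X = ⊥)
    {A : Subgroup X} (hsq : ∀ a ∈ A, a * a = 1)
    (hoff : Nat.card V ≤ Nat.card A * Nat.card (fixSub φ A)) : A = ⊥ :=
  no_offender_aux _ V rfl hV X φ hinj hfree hcore A hsq hoff

end CfsgLib.SThreeFree
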