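import Cfsg.Agent.Lib.SThreeFree.Basic

/-!
Sylow subgroups of subgroups, growth of the subgroup generated by a normal set of subgroups, and
minimal offenders.
-/

set_option autoImplicit false
set_option linter.style.haveILetI false
set_option linter.unusedSectionVars false

namespace CfsgLib.SThreeFree

open CfsgLib.Offender (fixSub mem_fixSub fixSub_anti)
open CfsgLib.Conjugacy (cj mem_cj conj_mem_cj cj_cj cj_one cj_mono card_cj cj_eq_of_mem_normalizer)

variable {X : Type*} [Group X]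

/-- `P` is a Sylow `2`-subgroup of `H`. -/
structure SylIn (P H : Subgroup X) : Prop where
  le : P ≤ H
  pgroup : IsPGroup 2 P
  odd_index : ¬ 2 ∣ P.relIndex H

theorem cj_eq_self_of_mem {H : Subgroup X} {h : X} (hh : h ∈ H) : cj h H = H :=
  cj_eq_of_mem_normalizer (Subgroup.le_normalizer hh)

theorem cj_inv_le {P Q : Subgroup X} {g : X} (h : cj g P ≤ Q) : P ≤ cj g⁻¹ Q := by
  have := cj_mono g⁻¹ h
  rwa [cj_cj, inv_mul_cancel, cj_one] at this

theorem SylIn.cj {P H : Subgroup X} (h : SylIn P H) {g : X} (hg : g ∈ H) :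
    SylIn (cj g P) H := by
  refine ⟨(cj_mono g h.le).trans (cj_eq_self_of_mem hg).le, h.pgroup.map _, ?_⟩
  rw [← cj_eq_self_of_mem hg, Subgroup.relIndex_map_map_of_injective _ _ (MulAut.conj g).injective]
  exact h.odd_index

theorem SylIn.of_le {P H K : Subgroup X} [Finite X] (h : SylIn P H) (hPK : P ≤ K) (hKH : K ≤ H) :
    SylIn P K :=
  ⟨hPK, h.pgroup, fun hd => h.odd_index
    (hd.trans (Subgroup.relIndex_mul_relIndex P K H hPK hKH ▸ dvd_mul_right _ _))⟩

variable [Finite X]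

theorem exists_sylIn {H Q : Subgroup X} (hQH : Q ≤ H) (hQ : IsPGroup 2 Q) :
    ∃ P, Q ≤ P ∧ SylIn P H := by
  haveI : Fact (Nat.Prime 2) := ⟨Nat.prime_two⟩
  obtain ⟨R, hR⟩ := (hQ.comap_of_injective H.subtype H.subtype_injective).exists_le_sylow
  refine ⟨(R : Subgroup H).map H.subtype, fun q hq => ⟨⟨q, hQH hq⟩, hR hq, rfl⟩,
    Subgroup.map_subtype_le _, R.2.map _, ?_⟩
  rw [Subgroup.relIndex, Subgroup.subgroupOf,
    Subgroup.comap_map_eq_self_of_injective H.subtype_injective]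
  exact R.not_dvd_index

theorem SylIn.exists_cj_le {P H Q : Subgroup X} (h : SylIn P H) (hQH : Q ≤ H)
    (hQ : IsPGroup 2 Q) : ∃ g ∈ H, CfsgLib.Conjugacy.cj g Q ≤ P := by
  haveI : Fact (Nat.Prime 2) := ⟨Nat.prime_two⟩
  let R : Sylow 2 H :=
    (h.pgroup.comap_of_injective H.subtype H.subtype_injective).toSylow h.odd_index
  obtain ⟨T, hT⟩ := (hQ.comap_of_injective H.subtype H.subtype_injective).exists_le_sylow
  obtain ⟨g, hg⟩ := MulAction.exists_smul_eq H T R
  refine ⟨g, g.2, ?_⟩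
  rintro _ ⟨q, hq, rfl⟩
  have h1 : g * ⟨q, hQH hq⟩ * g⁻¹ ∈ (R : Subgroup H) := by
    rw [← hg]
    exact ⟨⟨q, hQH hq⟩, hT hq, rfl⟩
  exact h1

theorem SylIn.exists_le {P H Q : Subgroup X} (h : SylIn P H) (hQH : Q ≤ H) (hQ : IsPGroup 2 Q) :
    ∃ g ∈ H, Q ≤ CfsgLib.Conjugacy.cj g P := by
  obtain ⟨g, hg, hle⟩ := h.exists_cj_le hQH hQ
  exact ⟨g⁻¹, inv_mem hg, cj_inv_le hle⟩

theorem SylIn.card_le {P H Q : Subgroup X} (h : SylIn P H) (hQH : Q ≤ H) (hQ : IsPGroup 2 Q) :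
    Nat.card Q ≤ Nat.card P := by
  obtain ⟨g, -, hle⟩ := h.exists_cj_le hQH hQ
  exact (card_cj g Q).ge.trans (Subgroup.card_le_of_le hle)

theorem SylIn.exists_eq {P H Q : Subgroup X} (h : SylIn P H) (hQ : SylIn Q H) :
    ∃ g ∈ H, Q = CfsgLib.Conjugacy.cj g P := by
  obtain ⟨g, hg, hle⟩ := h.exists_le hQ.le hQ.pgroup
  exact ⟨g, hg, Subgroup.eq_of_le_of_card_ge hle
    ((card_cj g P).le.trans (hQ.card_le h.le h.pgroup))⟩

/-- The intersection with a normal subgroup of `H`. -/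
theorem SylIn.inf {P H K : Subgroup X} (h : SylIn P H) (hKH : K ≤ H)
    (hK : ∀ g ∈ H, ∀ k ∈ K, g * k * g⁻¹ ∈ K) : SylIn (P ⊓ K) K := by
  obtain ⟨Q, hPQ, hQ⟩ := exists_sylIn (inf_le_right : P ⊓ K ≤ K)
    (h.pgroup.to_le inf_le_left)
  obtain ⟨g, hg, hle⟩ := h.exists_cj_le (hQ.le.trans hKH) hQ.pgroup
  have h1 : CfsgLib.Conjugacy.cj g Q ≤ P ⊓ K := le_inf hle (by
    rintro _ ⟨q, hq, rfl⟩
    exact hK g hg q (hQ.le hq))
  have h2 : P ⊓ K = Q := Subgroup.eq_of_le_of_card_ge hPQ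
    ((card_cj g Q).ge.trans (Subgroup.card_le_of_le h1))
  rw [h2]
  exact hQ

/-- The Frattini argument. -/
theorem SylIn.frattini {P H K : Subgroup X} (h : SylIn P H) (hKH : K ≤ H)
    (hK : ∀ g ∈ H, ∀ k ∈ K, g * k * g⁻¹ ∈ K) {x : X} (hx : x ∈ H) :
    ∃ k ∈ K, ∃ n ∈ H ⊓ Subgroup.normalizer ((P ⊓ K : Subgroup X) : Set X), x = k * n := by
  have hD := h.inf hKH hK
  have h1 : CfsgLib.Conjugacy.cj x (P ⊓ K) ≤ K := by
    rintro _ ⟨q, hq, rfl⟩
    exact hK x hx q hq.2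
  obtain ⟨k, hk, hle⟩ := hD.exists_cj_le h1 (hD.pgroup.map _)
  rw [cj_cj] at hle
  refine ⟨k⁻¹, inv_mem hk, k * x, ⟨mul_mem (hKH hk) hx, ?_⟩, (inv_mul_cancel_left k x).symm⟩
  refine Subgroup.mem_normalizer_iff_map_conj_eq.mpr ?_
  exact Subgroup.eq_of_le_of_card_ge hle (card_cj _ _).ge

/-- In a `2`-group, a normal set of subgroups generating more than the proper part `K` it has in `K`
has a further member normalizing `K`. -/
theorem exists_grow {S K : Subgroup X} (hS : IsPGroup 2 S) (Ω : Set (Subgroup X))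
    (hΩS : ∀ A ∈ Ω, A ≤ S) (hΩc : ∀ A ∈ Ω, ∀ x ∈ S, cj x A ∈ Ω)
    (hK : ∀ L : Subgroup X, (∀ A ∈ Ω, A ≤ K → A ≤ L) → K ≤ L) (hne : ∃ A ∈ Ω, ¬ A ≤ K) :
    ∃ A ∈ Ω, ¬ A ≤ K ∧ A ≤ Subgroup.normalizer (K : Set X) := by
  by_contra hcon
  push Not at hcon
  set R := S ⊓ Subgroup.normalizer (K : Set X) with hR
  have hKS : K ≤ S := hK S fun A hA _ => hΩS A hA
  have hKR : K ≤ R := le_inf hKS Subgroup.le_normalizer
  have hRS : R < S := lt_of_le_of_ne inf_le_left fun e => by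
    obtain ⟨A, hA, hAK⟩ := hne
    exact hcon A hA hAK ((hΩS A hA).trans (e ▸ inf_le_right))
  haveI : Fact (Nat.Prime 2) := ⟨Nat.prime_two⟩
  haveI : Group.IsNilpotent S := hS.isNilpotent
  have hlt : R.subgroupOf S < ⊤ := lt_top_iff_ne_top.mpr fun e =>
    hRS.not_ge (Subgroup.subgroupOf_eq_top.mp e)
  obtain ⟨x, hxN, hxR⟩ := SetLike.exists_of_lt
    (Group.normalizerCondition_of_isNilpotent _ hlt)
  have hxR' : (x : X) ∉ R := fun h => hxR h
  have hnormR : ∀ r ∈ R, (x : X) * r * (x : X)⁻¹ ∈ R := fun r hr =>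
    ((Subgroup.mem_normalizer_iff.mp hxN) ⟨r, hRS.le hr⟩).mp hr
  refine hxR' ⟨x.2, ?_⟩
  refine Subgroup.mem_normalizer_iff_map_conj_eq.mpr ?_
  refine Subgroup.eq_of_le_of_card_ge ?_ (card_cj _ _).ge
  refine Subgroup.map_le_iff_le_comap.mpr ?_
  refine hK _ fun A hA hAK => ?_
  rw [← Subgroup.map_le_iff_le_comap]
  by_contra h
  refine hcon _ (hΩc A hA x x.2) h ?_
  rintro _ ⟨a, ha, rfl⟩
  exact (hnormR a (hKR (hAK ha))).2

variable {V : Type*} [AddCommGroup V] [Finite V] {φ : X →* AddMonoid.End V}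

/-- The action of `A` on an invariant subgroup. -/
def resHom (φ : X →* AddMonoid.End V) (N : AddSubgroup V) (A : Subgroup X)
    (hA : A ≤ stab φ N) : A →* AddMonoid.End N where
  toFun a :=
    ({ toFun := fun (v : N) => ⟨φ (a : X) v.1, ((hA a.2) v.1).mpr v.2⟩
       map_zero' := Subtype.ext (map_zero (φ (a : X)))
       map_add' := fun u v => Subtype.ext (map_add (φ (a : X)) u.1 v.1) } : N →+ N)
  map_one' := AddMonoidHom.ext fun v => Subtype.ext (act_one φ v.1)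
  map_mul' a b := AddMonoidHom.ext fun v => Subtype.ext (act_mul φ a b v.1)

theorem resHom_ker (N : AddSubgroup V) (A : Subgroup X) (hA : A ≤ stab φ N) (a : A) :
    resHom φ N A hA a = 1 ↔ (a : X) ∈ fixer φ N := by
  constructor
  · intro h v hv
    exact congrArg Subtype.val (DFunLike.congr_fun h ⟨v, hv⟩)
  · intro h
    exact AddMonoidHom.ext fun v => Subtype.ext (h v v.2)

/-- A subgroup all whose proper subgroups have smaller measure than `|N|` or trivial image acts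
quadratically. -/
theorem quadratic_of_minimal {N : AddSubgroup V} {A : Subgroup X} (hV : ∀ v : V, v + v = 0)
    (hA : A ≤ stab φ N) (hsq : ∀ a ∈ A, a * a ∈ fixer φ N)
    (hoff : Nat.card N ≤ meas φ N A) (hne : ¬ A ≤ fixer φ N)
    (hmin : ∀ B ≤ A, ¬ B ≤ fixer φ N → Nat.card N ≤ meas φ N B → B = A) :
    ∀ a ∈ A, ∀ b ∈ A, ∀ v ∈ N, φ b (φ a v - v) = φ a v - v := by
  haveI : Fact (Nat.Prime 2) := ⟨Nat.prime_two⟩
  have hN : ∀ v : N, 2 • v = 0 := fun v => Subtype.ext (by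
    rw [two_nsmul]; exact hV v)
  set ψ := (resHom φ N A hA).toHomUnits with hψ
  set Y := ψ.range with hY
  set χ : Y →* AddMonoid.End N := (Units.coeHom _).comp Y.subtype with hχ
  haveI : Finite (AddMonoid.End N) := Finite.of_injective _ DFunLike.coe_injective
  have hker : ψ.ker = (fixer φ N).subgroupOf A := by
    ext a
    rw [MonoidHom.mem_ker, ← Units.val_inj, Subgroup.mem_subgroupOf, hψ, MonoidHom.coe_toHomUnits]
    exact resHom_ker N A hA a
  have hval : ∀ a : A, χ (ψ.rangeRestrict a) = resHom φ N A hA a := fun a => rfl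
  have hsqY : ∀ y : Y, y * y = 1 := by
    rintro ⟨_, a, rfl⟩
    refine Subtype.ext ?_
    show ψ a * ψ a = 1
    rw [← map_mul, ← MonoidHom.mem_ker, hker]
    exact hsq a a.2
  have hinvY : ∀ y : Y, y⁻¹ = y := fun y => inv_eq_of_mul_eq_one_right (hsqY y)
  have hYc : ∀ a ∈ (⊤ : Subgroup Y), ∀ b ∈ (⊤ : Subgroup Y), a * b = b * a := fun a _ b _ => by
    rw [← hinvY (a * b), mul_inv_rev, hinvY, hinvY]
  have hYp : IsPGroup 2 (⊤ : Subgroup Y) := fun y => ⟨1, by
    rw [pow_one, pow_two]; exact Subtype.ext (hsqY y)⟩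
  -- subgroups of the image
  have key : ∀ B : Subgroup Y,
      Nat.card B * Nat.card (fixSub χ B) =
        meas φ N ((B.comap ψ.rangeRestrict).map A.subtype) := by
    intro B
    set A' := B.comap ψ.rangeRestrict with hA'
    have hmapB : A'.map ψ.rangeRestrict = B :=
      Subgroup.map_comap_eq_self_of_surjective ψ.rangeRestrict_surjective B
    have h1 : img φ N (A'.map A.subtype) = Nat.card B := by
      rw [← hmapB, ← Subgroup.relIndex_ker, MonoidHom.ker_rangeRestrict, hker, img]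
      conv_rhs => rw [← Subgroup.relIndex_map_map_of_injective _ _ A.subtype_injective,
        Subgroup.subgroupOf_map_subtype]
      rw [← Subgroup.inf_relIndex_right, ← Subgroup.inf_relIndex_right (fixer φ N ⊓ A), inf_assoc,
        inf_eq_right.mpr (Subgroup.map_subtype_le A')]
    have h2 : Nat.card (fixIn φ N (A'.map A.subtype)) = Nat.card (fixSub χ B) := Nat.card_congr
      { toFun := fun v => ⟨⟨(v : V), v.2.1⟩, fun y hy => by
          obtain ⟨a, rfl⟩ := ψ.rangeRestrict_surjective y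
          exact Subtype.ext (v.2.2 a ⟨a, hy, rfl⟩)⟩
        invFun := fun v => ⟨((v : N) : V), (v : N).2, by
          rintro _ ⟨a, ha, rfl⟩
          exact congrArg Subtype.val (v.2 (ψ.rangeRestrict a) ha)⟩
        left_inv := fun _ => rfl
        right_inv := fun _ => rfl }
    rw [meas, h1, h2]
  have htop : (((⊤ : Subgroup Y).comap ψ.rangeRestrict).map A.subtype) = A := by
    rw [Subgroup.comap_top, ← MonoidHom.range_eq_map, Subgroup.range_subtype]
  have htriv : ∀ B : Subgroup Y, (B.comap ψ.rangeRestrict).map A.subtype ≤ fixer φ N → B = ⊥ := by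
    refine fun B hB => eq_bot_iff.mpr fun y hy => ?_
    obtain ⟨a, rfl⟩ := ψ.rangeRestrict_surjective y
    refine Subgroup.mem_bot.mpr (Subtype.ext ?_)
    show ψ a = 1
    rw [← MonoidHom.mem_ker, hker]
    exact hB ⟨a, hy, rfl⟩
  haveI : Nontrivial N := by
    by_contra h
    haveI := not_nontrivial_iff_subsingleton.mp h
    exact hne fun a _ v hv => by
      have h0 : (⟨v, hv⟩ : N) = 0 := Subsingleton.elim _ _
      have h1 : v = 0 := congrArg Subtype.val h0
      rw [h1, map_zero]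
  have hne1 : (⊤ : Subgroup Y) ≠ ⊥ := fun h => hne fun a ha => by
    have h1 : ψ.rangeRestrict ⟨a, ha⟩ = 1 := Subgroup.mem_bot.mp (h ▸ Subgroup.mem_top _)
    have h2 : (⟨a, ha⟩ : A) ∈ ψ.ker := congrArg Subtype.val h1
    rw [hker] at h2
    exact h2
  obtain ⟨B, -, hB1, hBoff, -, hquad⟩ := CfsgLib.Offender.exists_quadratic hN χ hne1 hYp hYc
    (by rw [key, htop]; exact Nat.card_congr (Equiv.refl N) ▸ hoff)
  rw [key] at hBoff
  have hBA := hmin _ (Subgroup.map_subtype_le _) (fun h => hB1 (htriv B h)) hBoff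
  intro a ha b hb v hv
  have hmem : ∀ c (hc : c ∈ A), ψ.rangeRestrict ⟨c, hc⟩ ∈ B := fun c hc => by
    obtain ⟨c', hc', e⟩ := (hBA.ge hc : c ∈ (B.comap ψ.rangeRestrict).map A.subtype)
    rwa [show (⟨c, hc⟩ : A) = c' from Subtype.ext e.symm]
  exact congrArg Subtype.val (hquad _ (hmem a ha) _ (hmem b hb) ⟨v, hv⟩)

end CfsgLib.SThreeFree
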